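-- Generated: a labelled coset table for `Tits`.
import Cfsg.Agent.Lib.KnownSimple.TitsLab.ChecksA
import Cfsg.Agent.Lib.KnownSimple.TitsLab.ChecksV0
import Cfsg.Agent.Lib.KnownSimple.TitsLab.ChecksV1
import Cfsg.Agent.Lib.KnownSimple.TitsLab.ChecksV2
import Cfsg.Agent.Lib.KnownSimple.TitsLab.ChecksV3
import Cfsg.Agent.Lib.KnownSimple.LabTower2
import Cfsg.Agent.Lib.KnownSimple.LabFinalA
import Cfsg.Agent.Lib.KnownSimple.LabPoly
import Cfsg.Agent.Lib.KnownSimple.TitsLab.Letters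
import Cfsg.Agent.Lib.KnownSimple.L33Lab.Facts

set_option autoImplicit false
set_option maxRecDepth 100000

universe u

namespace Cfsg.Agent.Lib.KnownSimple.TitsLab

open Cfsg.Agent.Lib.KnownSimple.Lab Subgroup 

def gwx : List ℕ := [1, 0, 3, 0, 1, 0, 3, 0, 1, 0, 3, 2, 2, 1, 2, 2, 3, 2]
def gwy : List ℕ := [0, 0, 3, 0, 1, 2, 1, 0, 1, 1, 2, 1, 2, 1, 2, 3, 3, 3, 0, 3, 2, 3]
def gw (a : ℕ) : List ℕ := [gwx, gwy].getD a []



theorem hgw1 : ∀ a < 2, ∀ b ∈ gw a, b < 2 * 2 := by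
  intro a ha
  interval_cases a
  · exact (by decide +kernel : ∀ b ∈ gwx, b < 2 * 2)
  · exact (by decide +kernel : ∀ b ∈ gwy, b < 2 * 2)

theorem hgw3 : ∀ a < 2, balanced 2 (gw a) = true := by
  intro a ha
  interval_cases a <;> decide +kernel

theorem hT : ∀ a < D.k, ∀ i < D.n, D.T a i < D.n := by
  intro a ha i hi
  have ha' : a < 4 := ha
  have hi' : i < 3200 := hi
  show D.T a i < 3200
  interval_cases a
  · exact Nat.le_of_ble_eq_true (hT0 i hi')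
  · exact Nat.le_of_ble_eq_true (hT1 i hi')
  · exact Nat.le_of_ble_eq_true (hT2 i hi')
  · exact Nat.le_of_ble_eq_true (hT3 i hi')

theorem hRchk : allI (fun ρ => (Rget ρ).all (fun a => Nat.blt a 4)) 0 77 = true := by decide +kernel

theorem hR : ∀ ρ < D.r, ∀ a ∈ D.R ρ, a < D.k := by
  intro ρ hρ a ha
  have h1 := of_allI hRchk ρ (Nat.zero_le _) hρ
  exact Nat.le_of_ble_eq_true (List.all_eq_true.mp h1 a ha)

theorem hR4 : ∀ ρ < D.r, ∀ a ∈ D.R ρ, a < 4 := hR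

theorem hp : ∀ j, 0 < j → j < D.n → D.par j < j ∧ D.gn j < D.k ∧ D.T (D.gn j) (D.par j) = j := by
  intro j h0 hj
  have h := hTree j hj
  simp only [Bool.or_eq_true, Bool.and_eq_true, Nat.beq_eq, Nat.blt_eq] at h
  rcases h with h | ⟨⟨h1, h2⟩, h3⟩
  · omega
  · exact ⟨h1, h2, h3⟩

theorem hZ : ∀ ρ < D.r, D.Z ρ = true → ∃ a < 2, D.R ρ = [a, a + 2] ∨ D.R ρ = [a + 2, a] ∨
    D.R ρ = (a + 2) :: gw a := by
  intro ρ hρ h
  have hρ' : ρ < 77 := hρ
  interval_cases ρ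
  · exact ⟨0, by norm_num, Or.inr (Or.inl rfl)⟩
  · exact ⟨0, by norm_num, Or.inl rfl⟩
  · exact ⟨1, by norm_num, Or.inr (Or.inl rfl)⟩
  · exact ⟨1, by norm_num, Or.inl rfl⟩
  · exact absurd h (by decide +kernel)
  · exact absurd h (by decide +kernel)
  · exact absurd h (by decide +kernel)
  · exact absurd h (by decide +kernel)
  · exact absurd h (by decide +kernel)
  · exact absurd h (by decide +kernel)
  · exact absurd h (by decide +kernel)
  · exact absurd h (by decide +kernel)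
  · exact absurd h (by decide +kernel)
  · exact absurd h (by decide +kernel)
  · exact absurd h (by decide +kernel)
  · exact absurd h (by decide +kernel)
  · exact absurd h (by decide +kernel)
  · exact absurd h (by decide +kernel)
  · exact absurd h (by decide +kernel)
  · exact absurd h (by decide +kernel)
  · exact absurd h (by decide +kernel)
  · exact absurd h (by decide +kernel)
  · exact absurd h (by decide +kernel)
  · exact absurd h (by decide +kernel)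
  · exact absurd h (by decide +kernel)
  · exact absurd h (by decide +kernel)
  · exact absurd h (by decide +kernel)
  · exact absurd h (by decide +kernel)
  · exact absurd h (by decide +kernel)
  · exact absurd h (by decide +kernel)
  · exact absurd h (by decide +kernel)
  · exact absurd h (by decide +kernel)
  · exact absurd h (by decide +kernel)
  · exact absurd h (by decide +kernel)
  · exact absurd h (by decide +kernel)
  · exact absurd h (by decide +kernel)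
  · exact absurd h (by decide +kernel)
  · exact absurd h (by decide +kernel)
  · exact absurd h (by decide +kernel)
  · exact absurd h (by decide +kernel)
  · exact absurd h (by decide +kernel)
  · exact absurd h (by decide +kernel)
  · exact absurd h (by decide +kernel)
  · exact absurd h (by decide +kernel)
  · exact absurd h (by decide +kernel)
  · exact absurd h (by decide +kernel)
  · exact absurd h (by decide +kernel)
  · exact absurd h (by decide +kernel)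
  · exact absurd h (by decide +kernel)
  · exact absurd h (by decide +kernel)
  · exact absurd h (by decide +kernel)
  · exact absurd h (by decide +kernel)
  · exact absurd h (by decide +kernel)
  · exact absurd h (by decide +kernel)
  · exact absurd h (by decide +kernel)
  · exact absurd h (by decide +kernel)
  · exact absurd h (by decide +kernel)
  · exact absurd h (by decide +kernel)
  · exact absurd h (by decide +kernel)
  · exact absurd h (by decide +kernel)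
  · exact absurd h (by decide +kernel)
  · exact absurd h (by decide +kernel)
  · exact absurd h (by decide +kernel)
  · exact absurd h (by decide +kernel)
  · exact absurd h (by decide +kernel)
  · exact absurd h (by decide +kernel)
  · exact absurd h (by decide +kernel)
  · exact absurd h (by decide +kernel)
  · exact absurd h (by decide +kernel)
  · exact absurd h (by decide +kernel)
  · exact absurd h (by decide +kernel)
  · exact absurd h (by decide +kernel)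
  · exact absurd h (by decide +kernel)
  · exact absurd h (by decide +kernel)
  · exact absurd h (by decide +kernel)
  · exact ⟨0, by norm_num, Or.inr (Or.inr rfl)⟩
  · exact ⟨1, by norm_num, Or.inr (Or.inr rfl)⟩

theorem hPkchk : allI (fun t => (Nat.blt (D.P t).1 4 && Nat.blt (D.P t).2 3200) ||
    (Nat.ble 4 (D.P t).1 && Nat.blt ((D.P t).1 - 4) 77 && Nat.beq (D.P t).2 0)) 0 8 = true := by decide +kernel

theorem hPk : ∀ t < D.m, ((D.P t).1 < D.k ∧ (D.P t).2 < D.n) ∨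
    (D.k ≤ (D.P t).1 ∧ (D.P t).1 - D.k < D.r ∧ (D.P t).2 = 0) := by
  intro t ht
  have := of_allI hPkchk t (Nat.zero_le _) ht
  simp only [Bool.or_eq_true, Bool.and_eq_true, Nat.beq_eq, Nat.blt_eq, Nat.ble_eq, and_assoc] at this
  exact this

theorem hPLchk : allI (fun t => vbeq (D.L (D.P t).1 (D.P t).2) (vunit 8 t)) 0 8 = true := by decide +kernel

theorem hPL : ∀ t < D.m, vbeq (D.L (D.P t).1 (D.P t).2) (vunit D.m t) = true := fun t ht =>
  of_allI hPLchk t (Nat.zero_le _) ht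

theorem hvar : ∀ a < D.k, ∀ i < D.n, Dat.varOK D a i = true := by
  intro a ha i hi
  have ha' : a < 4 := ha
  have hi' : i < 3200 := hi
  interval_cases a
  · exact hV0 i hi'
  · exact hV1 i hi'
  · exact hV2 i hi'
  · exact hV3 i hi'

theorem hrvchk : allI (fun ρ => Dat.relOK D ρ) 0 77 = true := by decide +kernel

theorem hrv : ∀ ρ < D.r, Dat.relOK D ρ = true := fun ρ hρ => of_allI hrvchk ρ (Nat.zero_le _) hρ

def rels : List (ℕ × ℕ) := [(75, 0), (76, 0), (5, 1122), (0, 277), (0, 1305), (0, 2777), (2, 403), (2, 509), (54, 0), (0, 118), (5, 878), (9, 460), (40, 2), (53, 31), (67, 102), (0, 1035), (0, 1517), (0, 1644), (2, 2613), (5, 1641), (11, 608), (15, 1099), (30, 2865), (31, 2443), (32, 0), (32, 816), (51, 177), (0, 509), (0, 1055), (0, 1073), (0, 2958), (2, 522), (2, 759), (5, 276), (11, 32), (12, 497), (30, 2505), (31, 2146), (32, 907), (52, 411), (53, 5), (53, 608), (53, 916), (63, 2),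 (71, 21), (20, 1972), (26, 1370), (27, 2292), (36, 1176), (44, 894), (49, 77), (53, 2124), (64, 2), (66, 118), (66, 226), (66, 364), (66, 2253), (0, 2532), (0, 2734), (2, 458), (2, 2762), (12, 1109), (19, 753), (22, 2414), (24, 839), (34, 1131), (36, 27), (37, 613), (39, 226), (45, 365), (47, 39), (47, 926), (49, 19), (52, 2), (66, 1923), (67, 188), (0, 502), (0, 2787), (2, 1182), (2, 2288), (4, 1073), (19, 173), (27, 418), (31, 460), (54, 1684), (58, 613), (59, 634), (67, 190), (67, 1601), (70, 53), (18, 553), (32, 1585), (36, 1044), (66, 121), (66, 335), (67, 411), (69, 2792), (70, 459), (66, 1950), (0, 317), (0, 1953), (2, 557), (2, 652), (2, 678), (2, 1444), (2, 1543), (2, 2240), (4, 1294), (8, 47), (19, 2505), (33, 9), (42, 1574), (53, 11), (53, 231), (53, 2443), (69, 940), (71, 511), (0, 518), (0, 1770), (12, 2669), (19, 143), (23, 839), (25, 47), (29, 853), (31, 1684), (49, 420), (53, 197),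 (53, 951), (63, 1503), (69, 1255), (70, 1636)]

theorem hrelschk : rels.all (fun x => Dat.relClosed D x.1 x.2) = true := by decide +kernel

theorem hrels : ∀ x ∈ rels, Dat.relClosed D x.1 x.2 = true := fun x hx => List.all_eq_true.mp hrelschk x hx

def gvs : List (List ℤ) := []
def bL : List (List ℤ) := [[], [], [], [], [], [], [], []]
def WL : List (List ℤ) := [[(-1), 0, 43, 0, 45, 0, 0, (-32), 3, 3, 0, 0, 0, 0, 0, 0, 0, 0, 0, 0, 0, 0, 0, 0, 0, 0, 0, 0, 0, 0, 0, 0, 0, 0, 0, 0, 0, 0, 0, 0, 0, 0, 0, 0, 0, 0, 0, 0, 0, 0, 0, 0, 0, 0, 0, 0, 0, 0, 0, 0, 0, 0, 0, 0, 0, 0, 0, 0, 0, 0, 0, 0, 0, 0, 0, 0, 0, 0, 0, 0, 0, 0, 0, 0, 0, 0, 0, 0, 0, 0, 0, 0, 0, 0, 0, 0, 0, 0, 20, 0, 0, 0, 0, 0, 0, 0, 0, 0, 0, 0, (-10), 0, 0, 0, 0, 0, 0, 0, 0, 0, 0, 0, 0, 0, 0, 0, 0, 0, 0, 0, 10], [2, 5, 35, 0, 55, 0, 0, (-40), (-2), 5, 0, 0, 0, 0, 0, 0, 0, 0, 0, 0, 0, 0, 0, 0, 0, 0, 0, 0, 0, 0, 0, 0, 0, 0, 0, 0, 0, 0, 0, 0, 0,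 0, 0, 0, 0, 0, 0, 0, 0, 0, 0, 0, 0, 0, 0, 0, 0, 0, 0, 0, 0, 0, 0, 0, 0, 0, 0, 0, 0, 0, 0, 0, 0, 0, 0, 0, 0, 0, 0, 0, 0, 0, 0, 0, 0, 0, 0, 0, 0, 0, 0, 0, 0, 0, 0, 0, 0, 0, 25, 0, 0, 0, 0, 0, 0, 0, 0, 0, 0, 0, (-10), 0, 0, 0, 0, 0, 0, 0, 0, 0, 0, 0, 0, 0, 0, 0, 0, 0, 0, 0, 16], [1, (-8), (-1906), 0, (-2023), 0, 0, 1440, (-126), (-150), 0, 0, 0, 0, 0, 0, 0, 0, 0, 0, 0, 0, 0, 0, 0, 0, 0, 0, 0, 0, 0, 0, 0, 0, 0, 0, 0, 0, 0, 0, 0, 0, 0, 0, 0, 0, 0, 0, 0, 0, 0, 0, 0, 0, 0, 0, 0, 0, 0, 0, 0, 0, 0, 0, 0, 0, 0, 0, 0, 0, 0, 0, 0, 0, 0, 0, 0, 0, 0, 0, 0, 0, 0, 0, 0, 0, 0, 0, 0, 0, 0, 0, 0, 0, 0, 0, 0, 0, (-900), 0, 0, 0, 0, 0, 0, 0, 0, 0, 0, 0, 446, 0, 0, 0, 0, 0, 0, 0, 0, 0, 0, 0, 0, 0, 0, 0, 0, 0, 0, 0, (-456)], [1, 0, (-85), 0, (-90), 0, 0, 64, (-6), (-6), 0, 0, 0, 0, 0, 0, 0, 0, 0, 0, 0, 0, 0, 0, 0, 0, 0, 0, 0, 0, 0, 0, 0, 0, 0, 0, 0, 0, 0, 0, 0, 0, 0, 0, 0, 0, 0, 0, 0, 0, 0, 0, 0, 0, 0, 0, 0, 0, 0, 0,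 0, 0, 0, 0, 0, 0, 0, 0, 0, 0, 0, 0, 0, 0, 0, 0, 0, 0, 0, 0, 0, 0, 0, 0, 0, 0, 0, 0, 0, 0, 0, 0, 0, 0, 0, 0, 0, 0, (-40), 0, 0, 0, 0, 0, 0, 0, 0, 0, 0, 0, 20, 0, 0, 0, 0, 0, 0, 0, 0, 0, 0, 0, 0, 0, 0, 0, 0, 0, 0, 0, (-20)], [(-1), 0, 86, 0, 90, 0, 0, (-64), 6, 6, 0, 0, 0, 0, 0, 0, 0, 0, 0, 0, 0, 0, 0, 0, 0, 0, 0, 0, 0, 0, 0, 0, 0, 0, 0, 0, 0, 0, 0, 0, 0, 0, 0, 0, 0, 0, 0, 0, 0, 0, 0, 0, 0, 0, 0, 0, 0, 0, 0, 0, 0, 0, 0, 0, 0, 0, 0, 0, 0, 0, 0, 0, 0, 0, 0, 0, 0, 0, 0, 0, 0, 0, 0, 0, 0, 0, 0, 0, 0, 0, 0, 0, 0, 0, 0, 0, 0, 0, 40, 0, 0, 0, 0, 0, 0, 0, 0, 0, 0, 0, (-20), 0, 0, 0, 0, 0, 0, 0, 0, 0, 0, 0, 0, 0, 0, 0, 0, 0, 0, 0, 20], [1, (-4), (-28), 0, (-44), 0, 0, 32, 2, (-3), 0, 0, 0, 0, 0, 0, 0, 0, 0, 0, 0, 0, 0, 0, 0, 0, 0, 0, 0, 0, 0, 0, 0, 0, 0, 0, 0, 0, 0, 0, 0, 0, 0, 0, 0, 0, 0, 0, 0, 0, 0, 0, 0, 0, 0, 0, 0, 0, 0, 0, 0, 0, 0, 0, 0, 0, 0, 0, 0, 0, 0, 0, 0, 0, 0, 0, 0, 0, 0, 0, 0, 0, 0, 0, 0, 0, 0,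 0, 0, 0, 0, 0, 0, 0, 0, 0, 0, 0, (-20), 0, 0, 0, 0, 0, 0, 0, 0, 0, 0, 0, 8, 0, 0, 0, 0, 0, 0, 0, 0, 0, 0, 0, 0, 0, 0, 0, 0, 0, 0, 0, (-13)], [(-1), 4, 996, 0, 1056, 0, 0, (-752), 66, 78, 0, 0, 0, 0, 0, 0, 0, 0, 0, 0, 0, 0, 0, 0, 0, 0, 0, 0, 0, 0, 0, 0, 0, 0, 0, 0, 0, 0, 0, 0, 0, 0, 0, 0, 0, 0, 0, 0, 0, 0, 0, 0, 0, 0, 0, 0, 0, 0, 0, 0, 0, 0, 0, 0, 0, 0, 0, 0, 0, 0, 0, 0, 0, 0, 0, 0, 0, 0, 0, 0, 0, 0, 0, 0, 0, 0, 0, 0, 0, 0, 0, 0, 0, 0, 0, 0, 0, 0, 470, 0, 0, 0, 0, 0, 0, 0, 0, 0, 0, 0, (-233), 0, 0, 0, 0, 0, 0, 0, 0, 0, 0, 0, 0, 0, 0, 0, 0, 0, 0, 0, 238], [(-1), (-3), (-462), 0, (-494), 0, 0, 352, (-30), (-38), 0, 0, 0, 0, 0, 0, 0, 0, 0, 0, 0, 0, 0, 0, 0, 0, 0, 0, 0, 0, 0, 0, 0, 0, 0, 0, 0, 0, 0, 0, 0, 0, 0, 0, 0, 0, 0, 0, 0, 0, 0, 0, 0, 0, 0, 0, 0, 0, 0, 0, 0, 0, 0, 0, 0, 0, 0, 0, 0, 0, 0, 0, 0, 0, 0, 0, 0, 0, 0, 0, 0, 0, 0, 0, 0, 0, 0, 0, 0, 0, 0, 0, 0, 0, 0, 0, 0, 0, (-220), 0, 0, 0, 0, 0, 0, 0,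 0, 0, 0, 0, 108, 0, 0, 0, 0, 0, 0, 0, 0, 0, 0, 0, 0, 0, 0, 0, 0, 0, 0, 0, (-112)]]

theorem hfinchk : allI (fun u => vbeq (vunit 8 u) (vadd (lin (bL.getD u []) gvs)
    (lin (WL.getD u []) (rels.map fun x => Dat.relRow D x.1 x.2)))) 0 8 = true := by decide +kernel

theorem hfin : ∀ u < D.m, vbeq (vunit D.m u) (vadd (lin (bL.getD u []) gvs)
    (lin (WL.getD u []) (rels.map fun x => Dat.relRow D x.1 x.2))) = true := fun u hu =>
  of_allI hfinchk u (Nat.zero_le _) hu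


def hw (b : ℕ) : List ℕ := hwL.getD b []

def qe (u : ℕ) : List ℕ := qeL.getD u []

theorem hwl : ∀ b < 2 * 2, ∀ a ∈ hw b, a < 2 * 2 := by decide +kernel

theorem hwi : ∀ b < 2, hw (b + 2) = invW 2 (hw b) := by decide +kernel

theorem hqe : ∀ u < D.m, (D.P u).1 < D.k → ∀ b ∈ qe u, b < 2 * 2 := by
  intro u hu _
  exact (by decide +kernel : ∀ u < 8, ∀ b ∈ qe u, b < 2 * 2) u hu

theorem hparW : parH 2 hw D.T D.par D.gn (D.P 0).1 (D.P 0).2 (qe 0) = pw0 ∧ parH 2 hw D.T D.par D.gn (D.P 3).1 (D.P 3).2 (qe 3) = pw3 ∧ parH 2 hw D.T D.par D.gn (D.P 4).1 (D.P 4).2 (qe 4) = pw4 ∧ parH 2 hw D.T D.par D.gn (D.P 5).1 (D.P 5).2 (qe 5) = pw5 ∧ parH 2 hw D.T D.par D.gn (D.P 6).1 (D.P 6).2 (qe 6) = pw6 ∧ parH 2 hw D.T D.par D.gn (D.P 7).1 (D.P 7).2 (qe 7) = pw7 := by decide +kernel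

theorem hPnon : ¬ (D.P 1).1 < D.k ∧ ¬ (D.P 2).1 < D.k := by decide +kernel


theorem c_rel : allI (fun ρ => chk (Rget ρ)) 0 77 = true := by decide +kernel
theorem c_p0 : chk pw0 = true := by decide +kernel
theorem c_p3 : chk pw3 = true := by decide +kernel
theorem c_p4 : chk pw4 = true := by decide +kernel
theorem c_p5 : chk pw5 = true := by decide +kernel
theorem c_p6 : chk pw6 = true := by decide +kernel
theorem c_p7 : chk pw7 = true := by decide +kernel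
theorem c_HE : ∀ w ∈ L33ALab.wordsL, chk (subW hw w) = true := by decide +kernel
theorem c_HA : ∀ w ∈ L33ALab.wordsL, chk (subW hw w) = true := by decide +kernel
theorem c_HB : ∀ w ∈ L33BLab.wordsL, chk (subW hw w) = true := by decide +kernel

section main

variable {G : Type u} [Group G] [Finite G] (g : ℕ → G)

/-- The order of the group is at most the expected one. -/
theorem card_le (hgi : ∀ a < 2, g (a + 2) = (g a)⁻¹) (hgen : closure (g '' {a | a < 2 * 2}) = ⊤)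
    (heq : ∀ w : List ℕ, (∀ a ∈ w, a < 4) → chk w = true → wval g w = 1) :
    Nat.card G ≤ 17971200 := by
  have hrelG : ∀ ρ < D.r, wval g (D.R ρ) = 1 := by
    intro ρ hρ
    exact heq _ (hR4 ρ hρ) (of_allI c_rel ρ (Nat.zero_le _) hρ)
  have hparG : ∀ u < D.m, (D.P u).1 < D.k →
      wval g (parH 2 hw D.T D.par D.gn (D.P u).1 (D.P u).2 (qe u)) = 1 := by
    intro u hu h
    have hu' : u < 8 := hu
    interval_cases u
    · rw [hparW.1]
      exact heq _ (by decide +kernel) c_p0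
    · exact absurd h hPnon.1
    · exact absurd h hPnon.2
    · rw [hparW.2.1]
      exact heq _ (by decide +kernel) c_p3
    · rw [hparW.2.2.1]
      exact heq _ (by decide +kernel) c_p4
    · rw [hparW.2.2.2.1]
      exact heq _ (by decide +kernel) c_p5
    · rw [hparW.2.2.2.2.1]
      exact heq _ (by decide +kernel) c_p6
    · rw [hparW.2.2.2.2.2]
      exact heq _ (by decide +kernel) c_p7
  have hsubl : ∀ w : List ℕ, (∀ b ∈ w, b < 2 * 2) → ∀ a ∈ subW hw w, a < 2 * 2 := subW_letters hwl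
  have hsub1 : ∀ w : List ℕ, (∀ b ∈ w, b < 2 * 2) → chk (subW hw w) = true → wval g (subW hw w) = 1 :=
    fun w h1 h2 => heq _ (hsubl w h1) h2
  obtain ⟨hG1, hG2, hG3⟩ := L33ALab.words_of (fun w => wval g (subW hw w) = 1)
    (fun w h => hsub1 w (by revert w; decide +kernel) (c_HE w h))
  have h1 := card_le_T D 2 rfl (by decide +kernel) g hgi hgen hw 2 hwl hwi L33ALab.D rfl L33ALab.pcL L33ALab.hpc L33ALab.hlet
    L33ALab.hT L33ALab.hR (by decide +kernel) L33ALab.hp (fun u => L33ALab.peL.getD u []) L33ALab.hPn L33ALab.hvar hG1 hG2 hG3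
    hT hR hp hrelG hPk hvar qe hqe hparG
  rw [L33ALab.hprod] at h1
  exact h1.trans (by decide +kernel)

/-- The kernels of the stem extensions. -/
theorem upper (hgi : ∀ a < 2, g (a + 2) = (g a)⁻¹) (hgen : closure (g '' {a | a < 2 * 2}) = ⊤)
    (heq : ∀ w : List ℕ, (∀ a ∈ w, a < 4) → chk w = true → wval g w = 1)
    (hcardG : Nat.card G = 17971200) (Γ : Type u) [Group Γ] [Finite Γ] (σ : Γ →* G) (hσ : Cfsg.IsStemExtension σ) :
    ∃ f : List ℤ → σ.ker,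
      (∀ x : σ.ker, x ∈ closure (f '' {v | v ∈ gvs})) ∧
      (∀ (v : List ℤ) (N : ℤ) (w : List ℤ),
        vbeq (vscale N v) (lin w (rels.map fun x => Dat.relRow D x.1 x.2)) = true → f v ^ N = 1) := by
  have hcard : Nat.card G = D.n * (L33ALab.D.n * (L33ALab.pcL.map PC.o).prod) := by
    rw [L33ALab.hprod, hcardG]
    decide +kernel
  have hrelG : ∀ ρ < D.r, wval g (D.R ρ) = 1 := by
    intro ρ hρ
    exact heq _ (hR4 ρ hρ) (of_allI c_rel ρ (Nat.zero_le _) hρ)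
  have hparG : ∀ u < D.m, (D.P u).1 < D.k →
      wval g (parH 2 hw D.T D.par D.gn (D.P u).1 (D.P u).2 (qe u)) = 1 := by
    intro u hu h
    have hu' : u < 8 := hu
    interval_cases u
    · rw [hparW.1]
      exact heq _ (by decide +kernel) c_p0
    · exact absurd h hPnon.1
    · exact absurd h hPnon.2
    · rw [hparW.2.1]
      exact heq _ (by decide +kernel) c_p3
    · rw [hparW.2.2.1]
      exact heq _ (by decide +kernel) c_p4
    · rw [hparW.2.2.2.1]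
      exact heq _ (by decide +kernel) c_p5
    · rw [hparW.2.2.2.2.1]
      exact heq _ (by decide +kernel) c_p6
    · rw [hparW.2.2.2.2.2]
      exact heq _ (by decide +kernel) c_p7
  have hsubl : ∀ w : List ℕ, (∀ b ∈ w, b < 2 * 2) → ∀ a ∈ subW hw w, a < 2 * 2 := subW_letters hwl
  have hsub1 : ∀ w : List ℕ, (∀ b ∈ w, b < 2 * 2) → chk (subW hw w) = true → wval g (subW hw w) = 1 :=
    fun w h1 h2 => heq _ (hsubl w h1) h2
  obtain ⟨hG1, hG2, hG3⟩ := L33ALab.words_of (fun w => wval g (subW hw w) = 1)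
    (fun w h => hsub1 w (by revert w; decide +kernel) (c_HE w h))
  have hgw2 : ∀ a < 2, wval g (gw a) = g a := by
    intro a ha
    interval_cases a
    · have h := hrelG 75 (by decide +kernel)
      rw [show D.R 75 = 2 :: gwx from rfl, wval_cons, show g 2 = (g 0)⁻¹ from hgi 0 (by norm_num)] at h
      exact (inv_mul_eq_one.mp h).symm
    · have h := hrelG 76 (by decide +kernel)
      rw [show D.R 76 = 3 :: gwy from rfl, wval_cons, show g 3 = (g 1)⁻¹ from hgi 1 (by norm_num)] at h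
      exact (inv_mul_eq_one.mp h).symm
  have hcX := card_T D 2 rfl (by decide +kernel) g hgi hgen hw 2 hwl hwi L33ALab.D rfl L33ALab.pcL L33ALab.hpc L33ALab.hlet
    L33ALab.hT L33ALab.hR (by decide +kernel) L33ALab.hp (fun u => L33ALab.peL.getD u []) L33ALab.hPn L33ALab.hvar hcard hG1 hG2 hG3
    hT hR hp hrelG hPk hvar qe hqe hparG
  have hcX' : Nat.card (closure ((fun b => wval g (hw b)) '' {b | b < 2 * 2})) = 5616 := by
    rw [hcX, L33ALab.hprod]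
    decide +kernel
  have hi : ∀ b < 2, (fun b => wval g (hw b)) (b + 2) = ((fun b => wval g (hw b)) b)⁻¹ := by
    intro b hb
    show wval g (hw (b + 2)) = (wval g (hw b))⁻¹
    rw [hwi b hb]
    exact wval_invW g 2 hgi _ (hwl b (by omega))
  have hletter : ∀ w : List ℕ, (∀ b ∈ w, b < 2 * 2) → chk (subW hw w) = true →
      wval (subLetters (fun b => wval g (hw b)) (2 * 2)) w = 1 := by
    intro w h1 h2
    apply Subtype.ext
    rw [subLetters_val _ _ w h1, Subgroup.coe_one, ← wval_subW]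
    exact hsub1 w h1 h2
  have hfacts := L33Lab.facts (subLetters (fun b => wval g (hw b)) (2 * 2))
    (subLetters_inv _ 2 hi) (subLetters_closure _ (2 * 2))
    (fun w h => hletter w (by revert w; decide +kernel) (c_HA w h)) (fun w h => hletter w (by revert w; decide +kernel) (c_HB w h)) hcX'
  have hcard' : Nat.card G = D.n * Nat.card (closure ((fun b => wval g (hw b)) '' {b | b < 2 * 2})) := by
    rw [hcX]
    exact hcard
  exact upper_T D 2 rfl (by decide +kernel) g hgi hgen hw 2 hwl hcard' gw hgw1 hgw2 hgw3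
    hT hR hp hrelG hZ hPk hPL hvar hrv rels hrels gvs (fun u => bL.getD u []) (fun u => WL.getD u [])
    hfin hfacts.1 hfacts.2 qe hqe hparG Γ σ hσ

end main

end Cfsg.Agent.Lib.KnownSimple.TitsLab
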