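import Mathlib
import Cfsg.Agent.Lib.KnownSimple.LabChev3
import Cfsg.Agent.Lib.KnownSimple.LabLevels
import Cfsg.Agent.Lib.KnownSimple.Schur
import Cfsg.Agent.Lib.Chev.All2

/-!
# A subgroup of index at most two contains the derived group
-/

set_option autoImplicit false

namespace Cfsg.Agent.Lib.KnownSimple.TitsLab

open Subgroup
open scoped commutatorElement

/-- A subgroup `K` such that `K ∪ sK` contains the generators, and `s` normalises `K` with `s² ∈ K`. -/
theorem comm_le_of_index2 {T : Type*} [Group T] (S : Set T) (hS : closure S = ⊤) (K : Subgroup T) (s : T)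
    (hs2 : s * s ∈ K) (hconj : ∀ k ∈ K, s⁻¹ * k * s ∈ K) (hgen : ∀ t ∈ S, t ∈ K ∨ s⁻¹ * t ∈ K) :
    commutator T ≤ K := by
  have hs2' : s⁻¹ * s⁻¹ ∈ K := by
    have := K.inv_mem hs2
    simpa [mul_inv_rev] using this
  let L : Subgroup T :=
    { carrier := {x | x ∈ K ∨ s⁻¹ * x ∈ K}
      mul_mem' := by
        rintro x y (hx | hx) (hy | hy)
        · exact Or.inl (K.mul_mem hx hy)
        · right
          have : s⁻¹ * (x * y) = (s⁻¹ * x * s) * (s⁻¹ * y) := by group
          rw [this]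
          exact K.mul_mem (hconj x hx) hy
        · right
          have : s⁻¹ * (x * y) = (s⁻¹ * x) * y := by group
          rw [this]
          exact K.mul_mem hx hy
        · left
          have : x * y = (s * s) * (s⁻¹ * (s⁻¹ * x) * s) * (s⁻¹ * y) := by group
          rw [this]
          exact K.mul_mem (K.mul_mem hs2 (hconj _ hx)) hy
      one_mem' := Or.inl K.one_mem
      inv_mem' := by
        rintro x (hx | hx)
        · exact Or.inl (K.inv_mem hx)
        · right
          have : s⁻¹ * x⁻¹ = (s⁻¹ * (s⁻¹ * x)⁻¹ * s) * (s⁻¹ * s⁻¹) := by group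
          rw [this]
          exact K.mul_mem (hconj _ (K.inv_mem hx)) hs2' }
  have hL : ∀ x : T, x ∈ K ∨ s⁻¹ * x ∈ K := by
    have h1 : closure S ≤ L := by
      rw [closure_le]
      intro t ht
      exact hgen t ht
    rw [hS] at h1
    intro x
    exact h1 (mem_top x)
  have hconj' : ∀ x : T, ∀ k ∈ K, x⁻¹ * k * x ∈ K := by
    intro x k hk
    rcases hL x with hx | hx
    · exact K.mul_mem (K.mul_mem (K.inv_mem hx) hk) hx
    · have : x⁻¹ * k * x = (s⁻¹ * x)⁻¹ * (s⁻¹ * k * s) * (s⁻¹ * x) := by group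
      rw [this]
      exact K.mul_mem (K.mul_mem (K.inv_mem hx) (hconj k hk)) hx
  have hN : K.Normal := ⟨fun n hn g => by
    have := hconj' g⁻¹ n hn
    simpa using this⟩
  rw [commutator_def, Subgroup.commutator_le]
  intro x _ y _
  have hπ : ∀ x : T, (QuotientGroup.mk x : T ⧸ K) = 1 ∨ (QuotientGroup.mk x : T ⧸ K) = QuotientGroup.mk s := by
    intro x
    rcases hL x with hx | hx
    · left
      exact (QuotientGroup.eq_one_iff x).mpr hx
    · right
      exact (QuotientGroup.eq.mpr hx).symm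
  rw [← QuotientGroup.eq_one_iff]
  have e : ((⁅x, y⁆ : T) : T ⧸ K) = ⁅(x : T ⧸ K), (y : T ⧸ K)⁆ :=
    map_commutatorElement (QuotientGroup.mk' K) x y
  rw [e, commutatorElement_eq_one_iff_commute]
  rcases hπ x with h1 | h1 <;> rcases hπ y with h2 | h2 <;> rw [h1, h2]
  all_goals first
    | exact Commute.one_left (_ : T ⧸ K)
    | exact Commute.one_right (_ : T ⧸ K)
    | exact Commute.refl (_ : T ⧸ K)

section pack

open Cfsg.Agent.Lib.KnownSimple.Lab Cfsg.Agent.Lib.KnownSimple.LabMat Cfsg.Agent.Lib.KnownSimple.LabField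
open Cfsg.Agent.Lib.KnownSimple.LabVec Cfsg.Agent.Lib.KnownSimple.LabChev Cfsg.Agent.Lib.KnownSimple.LabPack
open scoped Matrix

variable {D : Cfsg.Lie.ChevalleyDatum} {F : Type*} [Field F]

/-- A word of root elements, on packed vectors. -/
def mvw (colsR : ℕ → List (List ℕ)) : List ℕ → ℕ → ℕ
  | [], P => P
  | j :: l, P => mvP 1 2 (colsR j) (mvw colsR l P) 0

/-- The action of a word of root elements on packed vectors. -/
theorem word_unp (R : Rep F 2 add2 mul2) (G : Chev.Good2 D) {ic : ℤ → ℕ} (hic : ∀ z, R.φ (ic z) = (z : F))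
    {RL : List (ℕ × ℕ)} {SL : List (List (List (ℕ × ℕ)))}
    (hRL : ∀ j < RL.length, (RL.getD j (0, 0)).1 < D.nroots ∧
      chkX add2 mul2 ic D (RL.getD j (0, 0)).1 (RL.getD j (0, 0)).2 (SL.getD j []) = true)
    (colsR : ℕ → List (List ℕ)) (hlen : ∀ j < RL.length, (colsR j).length = dd D)
    (hcols : ∀ j < RL.length, ∀ k < dd D, ∀ c < 2, ∀ i < dd D,
      dig 1 (nthL ((colsR j).getD k []) c) i = mul2 c (entryS add2 ((SL.getD j []).getD i []) k))
    (hxor : ∀ x < 2 ^ 1, ∀ y < 2 ^ 1, add2 x y = x ^^^ y) :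
    ∀ l : List ℕ, (∀ j ∈ l, j < RL.length) → ∀ P : ℕ,
      chHom D F (wval (xI G R.φ RL) l) *ᵥ unp R.φ 1 (dd D) P = unp R.φ 1 (dd D) (mvw colsR l P) := by
  have hxo : ∀ x < 2 ^ 1, ∀ y < 2 ^ 1, R.φ (x ^^^ y) = R.φ x + R.φ y := by
    intro x hx y hy
    rw [← hxor x hx y hy, R.hadd]
  intro l
  induction l with
  | nil =>
    intro _ P
    simp [mvw]
  | cons j l ih =>
    intro hl P
    have hj := hl j (by simp)
    rw [wval_cons, map_mul, ← Matrix.mulVec_mulVec, ih (fun b hb => hl b (by simp [hb])) P, mvw]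
    have hM := xE_val G R hic (hRL j hj).1 (hRL j hj).2
    refine mulVec_unp hxo R.h0 (chHom D F (xI G R.φ RL j)) (colsR j) (hlen j hj) ?_ _
    intro k c hc i
    have hM' : chHom D F (xI G R.φ RL j) = toMS R.φ add2 (dd D) (SL.getD j []) := hM
    rw [hM']
    simp only [unp, toMS, Matrix.of_apply]
    rw [hcols j hj k k.2 c hc i i.2, R.hmul]

/-- A matrix fixing the points of a packed base is the identity. -/
theorem eq_one_of_base_pack {d : ℕ} (R : Rep F 2 add2 mul2) (M : Matrix (Fin d) (Fin d) F)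
    (hxor : ∀ x < 2 ^ 1, ∀ y < 2 ^ 1, add2 x y = x ^^^ y)
    (bc Cp : ℕ → ℕ)
    (hC : ∀ j < d, mvP 1 2 ((List.range d).map fun k => [0, bc k]) (Cp j) 0 = 2 ^ j)
    (hu : ∀ i < d, ∀ j < d, dig 1 (2 ^ j) i = if i = j then 1 else 0)
    (hM : ∀ k < d, M *ᵥ unp R.φ 1 d (bc k) = unp R.φ 1 d (bc k)) : M = 1 := by
  have hxo : ∀ x < 2 ^ 1, ∀ y < 2 ^ 1, R.φ (x ^^^ y) = R.φ x + R.φ y := by
    intro x hx y hy
    rw [← hxor x hx y hy, R.hadd]
  set B : Matrix (Fin d) (Fin d) F := Matrix.of fun i k => unp R.φ 1 d (bc k) i with hB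
  set C : Matrix (Fin d) (Fin d) F := Matrix.of fun i j => unp R.φ 1 d (Cp j) i with hCd
  have hcol : ∀ k : Fin d, ∀ c < 2 ^ 1, ∀ i : Fin d,
      unp R.φ 1 d (nthL (((List.range d).map fun k => [0, bc k]).getD k []) c) i = R.φ c * B i k := by
    intro k c hc i
    have e : ((List.range d).map fun k => [0, bc k]).getD k [] = [0, bc k] := by
      rw [List.getD_eq_getElem _ _ (by simp)]
      simp
    rw [e]
    have hc' : c = 0 ∨ c = 1 := by
      norm_num at hc
      omega
    rcases hc' with rfl | rfl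
    · simp only [nthL, unp, dig, R.h0, zero_mul]
      simp [R.h0]
    · simp only [nthL, R.h1, one_mul]
      rfl
  have hBC : B * C = 1 := by
    ext i j
    have h1 := mulVec_unp hxo R.h0 B ((List.range d).map fun k => [0, bc k]) (by simp) hcol (Cp j)
    rw [show (2 : ℕ) ^ 1 = 2 from rfl, hC j j.2] at h1
    have h2 := congrFun h1 i
    have h3 : (B * C) i j = (B *ᵥ unp R.φ 1 d (Cp j)) i := rfl
    rw [h3, h2]
    simp only [unp]
    rw [hu i i.2 j j.2]
    by_cases hij : i = j
    · subst hij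
      simp [R.h1]
    · have : (i : ℕ) ≠ j := fun h => hij (Fin.ext h)
      simp [hij, this, R.h0]
  have hMB : M * B = B := by
    ext i k
    have h := congrFun (hM k k.2) i
    exact h
  calc M = M * (B * C) := by rw [hBC, mul_one]
    _ = B * C := by rw [← mul_assoc, hMB]
    _ = 1 := hBC

end pack

end Cfsg.Agent.Lib.KnownSimple.TitsLab
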