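import Cfsg.Agent.Lib.KnownSimple.TitsLab.Rep
import Cfsg.Agent.Lib.KnownSimple.LabPoly

/-!
# The group ²F₄(2) has no involutions outside its derived subgroup
-/

set_option autoImplicit false
set_option maxRecDepth 100000

namespace Cfsg.Agent.Lib.KnownSimple.TitsLab

open Cfsg.Agent.Lib.KnownSimple.Lab Cfsg.Agent.Lib.KnownSimple.LabMat Cfsg.Agent.Lib.KnownSimple.LabField
open Cfsg.Agent.Lib.KnownSimple.LabVec Cfsg.Agent.Lib.KnownSimple.LabChev Cfsg.Agent.Lib.KnownSimple.LabPack Cfsg.Lie Subgroup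
open Cfsg.Agent.Lib.KnownSimple.LabLevels Cfsg.Agent.Lib.KnownSimple
open scoped Matrix Pointwise

section chainq

/-- The positive relations of a polycyclic sequence. -/
def relPos : List PC → List (List ℕ × List ℕ)
  | [] => []
  | p :: l => (powW p.u p.o, nfWord (l.map PC.u) p.pw) ::
      (List.zipWith (fun (t : PC) (e : List ℕ) => (p.u ++ t.u, nfWord (l.map PC.u) e ++ p.u)) l p.cj ++ relPos l)

variable {Y : Type*} [Group Y]

theorem chain_of_pos (γ : ℕ → Y) :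
    ∀ pc : List PC, pcWF pc = true → (∀ r ∈ relPos pc, wval γ r.1 = wval γ r.2) →
    ChainOK (⊥ : Subgroup Y) (pc.map fun p => (wval γ p.u, p.o))
  | [], _, _ => trivial
  | p :: l, hwf, hrel => by
    simp only [pcWF, Bool.and_eq_true, Nat.beq_eq, Nat.blt_eq] at hwf
    obtain ⟨⟨h1, h2⟩, h3⟩ := hwf
    have hmap : (l.map fun p => (wval γ p.u, p.o)).map Prod.fst = (l.map PC.u).map (wval γ) := by
      simp [List.map_map, Function.comp_def]
    refine ⟨h2, ?_, ?_, ?_⟩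
    · have h4 := hrel _ List.mem_cons_self
      simp only at h4
      rw [wval_powW] at h4
      show wval γ p.u ^ p.o ∈ _
      rw [hmap, h4]
      exact nf_mem γ ⊥ (l.map PC.u) p.pw
    · rw [hmap]
      show ∀ x ∈ _, wval γ p.u * x * (wval γ p.u)⁻¹ ∈ _
      apply conj_chain
      · intro z hz
        rw [Subgroup.mem_bot.mp hz]
        simp [one_mem]
      · intro v hv
        obtain ⟨q, hq, rfl⟩ := List.mem_map.mp hv
        obtain ⟨t, ht, rfl⟩ := List.mem_map.mp hq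
        obtain ⟨k, hk, rfl⟩ := List.mem_iff_getElem.mp ht
        have hk2 : k < p.cj.length := by rw [h1]; exact hk
        have hmem : (p.u ++ l[k].u, nfWord (l.map PC.u) p.cj[k] ++ p.u) ∈
            List.zipWith (fun (t : PC) (e : List ℕ) => (p.u ++ t.u, nfWord (l.map PC.u) e ++ p.u)) l p.cj := by
          rw [List.mem_iff_getElem]
          exact ⟨k, by simp [hk, hk2], by simp⟩
        have h4 := hrel _ (List.mem_cons_of_mem _ (List.mem_append_left _ hmem))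
        simp only [wval_append] at h4
        have h5 := nf_mem γ ⊥ (l.map PC.u) p.cj[k]
        have e : wval γ p.u * wval γ l[k].u * (wval γ p.u)⁻¹ = wval γ (nfWord (l.map PC.u) p.cj[k]) := by
          rw [h4]
          group
        rw [e]
        exact h5
    · exact chain_of_pos γ l h3 (fun r hr => hrel r (List.mem_cons_of_mem _ (List.mem_append_right _ hr)))

/-- The elements of a step of index two. -/
theorem step_shape (P : Subgroup Y) (u : Y) (hu : ∀ x ∈ P, u * x * u⁻¹ ∈ P) (h2 : u ^ 2 ∈ P) :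
    ∀ q ∈ Subgroup.closure ({u} ∪ (P : Set Y)), q ∈ P ∨ u⁻¹ * q ∈ P := by
  have h2' : u * u ∈ P := by rwa [← pow_two]
  have hi : u⁻¹ * u⁻¹ ∈ P := by
    have := P.inv_mem h2'
    simpa [mul_inv_rev] using this
  have hu' : ∀ x ∈ P, u⁻¹ * x * u ∈ P := by
    intro x hx
    have e : u⁻¹ * x * u = (u⁻¹ * u⁻¹) * (u * x * u⁻¹) * (u * u) := by group
    rw [e]
    exact P.mul_mem (P.mul_mem hi (hu x hx)) h2'
  intro q hq
  refine Subgroup.closure_induction_left (p := fun q _ => q ∈ P ∨ u⁻¹ * q ∈ P) ?_ ?_ ?_ hq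
  · exact Or.inl P.one_mem
  · rintro x (rfl | hx) y _ (h | h)
    · right
      simpa using h
    · left
      have e : x * y = (x * x) * (x⁻¹ * y) := by group
      rw [e]
      exact P.mul_mem h2' h
    · exact Or.inl (P.mul_mem hx h)
    · right
      have e : u⁻¹ * (x * y) = (u⁻¹ * x * u) * (u⁻¹ * y) := by group
      rw [e]
      exact P.mul_mem (hu' x hx) h
  · rintro x (rfl | hx) y _ (h | h)
    · right
      rw [← mul_assoc]
      exact P.mul_mem hi h
    · exact Or.inl h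
    · exact Or.inl (P.mul_mem (P.inv_mem hx) h)
    · right
      have e : u⁻¹ * (x⁻¹ * y) = (u⁻¹ * x⁻¹ * u) * (u⁻¹ * y) := by group
      rw [e]
      exact P.mul_mem (hu' _ (P.inv_mem hx)) h

/-- The normal forms of a chain of steps of index two. -/
def allNf : List (List ℕ) → List (List ℕ)
  | [] => [[]]
  | u :: us => (allNf us).flatMap fun w => [w, u ++ w]

theorem mem_allNf (γ : ℕ → Y) : ∀ pc : List PC, (∀ p ∈ pc, p.o = 2) →
    ChainOK (⊥ : Subgroup Y) (pc.map fun p => (wval γ p.u, p.o)) →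
    ∀ q ∈ chainSub (⊥ : Subgroup Y) ((pc.map PC.u).map (wval γ)), ∃ w ∈ allNf (pc.map PC.u), q = wval γ w
  | [], _, _, q, hq => ⟨[], by simp [allNf], by
      have h : q ∈ (⊥ : Subgroup Y) := hq
      simpa using h⟩
  | p :: l, ho, ⟨_, h2, h3, h4⟩, q, hq => by
    have hmap : (l.map fun p => (wval γ p.u, p.o)).map Prod.fst = (l.map PC.u).map (wval γ) := by
      simp [List.map_map, Function.comp_def]
    have hh2 : wval γ p.u ^ 2 ∈ chainSub (⊥ : Subgroup Y) ((l.map PC.u).map (wval γ)) := by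
      rw [hmap] at h2
      have e := ho p (by simp)
      simp only [e] at h2
      exact h2
    have hh3 : ∀ x ∈ chainSub (⊥ : Subgroup Y) ((l.map PC.u).map (wval γ)),
        wval γ p.u * x * (wval γ p.u)⁻¹ ∈ chainSub (⊥ : Subgroup Y) ((l.map PC.u).map (wval γ)) := by
      rw [hmap] at h3
      exact h3
    have hq' : q ∈ Subgroup.closure ({wval γ p.u} ∪ (chainSub (⊥ : Subgroup Y) ((l.map PC.u).map (wval γ)) : Set Y)) := hq
    have ho' : ∀ p' ∈ l, p'.o = 2 := fun p' hp' => ho p' (by simp [hp'])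
    rcases step_shape _ _ hh3 hh2 q hq' with h | h
    · obtain ⟨w, hw, e⟩ := mem_allNf γ l ho' h4 q h
      exact ⟨w, List.mem_flatMap.mpr ⟨w, hw, by simp⟩, e⟩
    · obtain ⟨w, hw, e⟩ := mem_allNf γ l ho' h4 _ h
      refine ⟨p.u ++ w, List.mem_flatMap.mpr ⟨w, hw, by simp⟩, ?_⟩
      rw [wval_append, ← e]
      group

end chainq

/-- The polycyclic sequence of a Sylow subgroup. -/
def pcT : PC := ⟨[6], 2, [0, 0, 0, 1, 0, 0, 0, 0, 0, 0, 0], [[1, 0, 0, 0, 1, 0, 1, 1, 1, 1, 1], [0, 1, 1, 1, 1, 0, 1, 1, 1, 0, 0], [0, 0, 1, 0, 1, 1, 0, 0, 0, 1, 0], [0, 0, 0, 1, 0, 0, 0, 0, 0, 0, 0], [0, 0, 0, 0, 1, 1, 1, 0, 0, 1, 1], [0, 0, 0, 0, 0, 1, 0, 1, 0, 0, 1], [0, 0, 0, 0, 0, 0, 1, 1, 1, 0, 0], [0, 0, 0, 0, 0, 0, 0, 1, 1, 1, 0], [0, 0, 0, 0, 0, 0, 0, 0, 1, 1, 1], [0, 0, 0, 0, 0, 0, 0, 0, 0, 1, 0], [0, 0, 0, 0, 0, 0, 0, 0, 0, 0, 1]]⟩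

/-- The polycyclic sequence of a Sylow subgroup. -/
def pcR : List PC := [⟨[5, 4, 6, 4, 5, 6], 2, [0, 0, 1, 1, 1, 1, 1, 0, 0, 1], [[1, 1, 1, 1, 0, 1, 1, 0, 1, 0], [0, 1, 0, 1, 0, 1, 1, 0, 1, 0], [0, 0, 1, 0, 1, 1, 1, 0, 0, 0], [0, 0, 0, 1, 1, 1, 1, 1, 1, 1], [0, 0, 0, 0, 1, 0, 1, 1, 1, 0], [0, 0, 0, 0, 0, 1, 1, 1, 0, 1], [0, 0, 0, 0, 0, 0, 1, 1, 1, 0], [0, 0, 0, 0, 0, 0, 0, 1, 1, 0], [0, 0, 0, 0, 0, 0, 0, 0, 1, 0], [0, 0, 0, 0, 0, 0, 0, 0, 0, 1]]⟩,
  ⟨[4], 2, [0, 0, 0, 0, 0, 0, 0, 0, 0], [[1, 0, 1, 0, 1, 1, 1, 1, 1], [0, 1, 1, 0, 0, 0, 0, 0, 0], [0, 0, 1, 0, 0, 0, 1, 0, 1], [0, 0, 0, 1, 0, 1, 0, 0, 1], [0, 0, 0, 0, 1, 0, 0, 0, 0], [0, 0, 0, 0, 0, 1, 0, 0, 0], [0, 0, 0, 0, 0, 0, 1, 0, 0], [0, 0, 0, 0, 0, 0, 0, 1, 1], [0, 0, 0, 0, 0, 0, 0, 0, 1]]⟩,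
  ⟨[6, 4, 6, 4], 2, [0, 0, 1, 0, 1, 0, 0, 0], [[1, 0, 1, 1, 1, 0, 0, 0], [0, 1, 0, 0, 1, 0, 0, 1], [0, 0, 1, 0, 0, 0, 1, 0], [0, 0, 0, 1, 0, 1, 0, 1], [0, 0, 0, 0, 1, 0, 1, 0], [0, 0, 0, 0, 0, 1, 0, 1], [0, 0, 0, 0, 0, 0, 1, 0], [0, 0, 0, 0, 0, 0, 0, 1]]⟩,
  ⟨[7], 2, [0, 0, 0, 0, 0, 0, 0], [[1, 0, 0, 0, 1, 0, 1], [0, 1, 0, 0, 1, 1, 0], [0, 0, 1, 0, 1, 0, 1], [0, 0, 0, 1, 0, 1, 1], [0, 0, 0, 0, 1, 0, 0], [0, 0, 0, 0, 0, 1, 0], [0, 0, 0, 0, 0, 0, 1]]⟩,
  ⟨[7, 4, 7, 4], 2, [0, 0, 0, 1, 0, 1], [[1, 0, 0, 0, 1, 1], [0, 1, 0, 0, 0, 0], [0, 0, 1, 0, 0, 1], [0, 0, 0, 1, 0, 0], [0, 0, 0, 0, 1, 0], [0, 0, 0, 0, 0, 1]]⟩,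
  ⟨[8, 4, 8, 4, 8, 4, 8, 4], 2, [0, 0, 0, 0, 1], [[1, 0, 0, 0, 1], [0, 1, 0, 0, 0], [0, 0, 1, 0, 0], [0, 0, 0, 1, 0], [0, 0, 0, 0, 1]]⟩,
  ⟨[8, 4, 6, 4, 8, 4, 6, 4], 2, [0, 0, 0, 0], [[1, 0, 0, 0], [0, 1, 0, 0], [0, 0, 1, 0], [0, 0, 0, 1]]⟩,
  ⟨[5, 4, 6, 4, 5, 7, 4, 6, 5, 4, 6, 4, 5, 6, 4], 2, [0, 0, 0], [[1, 0, 0], [0, 1, 0], [0, 0, 1]]⟩,
  ⟨[5, 4, 6, 4, 5, 8, 4, 7, 5, 4, 6, 4, 5, 4, 8], 2, [0, 0], [[1, 0], [0, 1]]⟩,
  ⟨[7, 4, 7, 5, 4, 6, 4, 5, 8, 5, 4, 6, 4, 5, 6, 4], 2, [0], [[1]]⟩,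
  ⟨[5, 4, 6, 4, 5, 7, 5, 4, 6, 4, 5, 7, 5, 4, 6, 4, 5, 7, 5, 4, 6, 4, 5, 7], 2, [], []⟩]

/-- The polycyclic sequence of a Sylow subgroup. -/
def pcL : List PC := pcT :: pcR

/-- Two words agree on the base. -/
def chkEq (w1 w2 : List ℕ) : Bool := bsL.all fun i => Nat.beq (walk V w1 i) (walk V w2 i)

/-- The points moved. -/
def ptsM : List ℕ := [2, 0]

theorem c_pts : ∀ p ∈ ptsM, p < 1755 := by decide

/-- The square of a word moves a point. -/
def movesSq (W : List ℕ) : Bool := ptsM.any fun p => !(Nat.beq (walk V (W ++ W) p) p)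

/-- A word from a mask. -/
def maskW (m : ℕ) : List ℕ := (List.range 12).filter fun k => Nat.testBit m k

/-- The levels of the Sylow subgroup. -/
def LvPc : List (ℕ × List ℕ) := [(0, [1, 2381, 3008, 2597, 4012, 4013, 1666, 3287, 1139, 2382, 3984, 2436, 3028, 3577, 969, 48, 2123, 2122, 708, 1252, 1099, 411, 3089, 1984, 3797, 924, 4095, 3570, 968, 33, 3910, 4035, 3216, 2485, 137, 156, 4094, 1571, 2608, 1128, 3181, 57, 894, 4050, 2448, 2349, 1667, 1487, 56, 3180, 2593, 4009, 946, 863, 1680, 2437, 2816, 3677, 2196, 2945, 3678, 3330, 2007, 1779, 1587, 95, 3718, 3390, 651, 610, 107, 3598, 2624, 732, 2092, 2861, 1968, 568, 3613, 889, 2979, 1999, 6, 958, 3067, 3207, 3298, 970, 2175, 1967, 582, 1942, 3092, 3229, 704, 1248, 281, 1321, 3113, 2028, 988, 3300, 1674, 1854, 205, 1480, 2222, 3850, 1825, 140, 965, 36, 1440, 2452, 1182, 659, 2062, 2210, 120, 2709, 12, 3316, 2555, 4023, 1741, 3145, 3822, 3963, 2767, 1478, 279, 2535, 528,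 2497, 2512, 529, 2634, 1610, 1611, 1418, 1758, 2871, 3647, 1055, 2989, 1028, 1029, 3621, 470, 735, 1303, 3559, 229, 2940, 1732, 1780, 31, 2310, 2343, 3790, 547, 2071, 435, 1104, 407, 1309, 4064, 3512, 2904, 3261, 1300, 2184, 537, 1504, 3586, 1857, 430, 2916, 1838, 642, 425, 1328, 3877, 2905, 1301, 1528, 4081, 1657, 2316, 1926, 1872, 3603, 319, 546, 1782, 994, 3408, 451, 2885, 2406, 2483, 347, 1387, 1087, 3472, 3365, 693, 272, 1778, 723, 2287, 2118, 2631, 2707, 3774, 3302, 3388, 1245, 1188, 3920, 778, 2130, 3051, 1686, 3612, 3353, 1864, 3696, 2918, 2279, 1027, 3783, 4022, 1002, 3807, 3253, 3179, 3144, 1645, 304, 653, 2565, 2708, 2056, 3269, 1124, 658, 4044, 1199, 3184, 2095, 883, 3336, 1625, 721, 2080, 4004, 1900, 2393, 852, 1676, 2990, 3932, 3255, 887, 183, 1638, 2506, 3292, 2699, 1545, 3318, 1347, 110, 3391, 3719, 611, 1178, 2666, 3615, 1809, 2197, 641, 684, 2127, 1231, 3362, 1202, 3904, 733, 1973, 3748, 114, 55, 782,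 959, 3686, 2042, 3299, 2314, 2089, 1969, 1192, 1276, 4058, 2239, 1675, 2620, 1481, 518, 3945, 760, 753, 705, 2142, 3077, 2005, 391, 398, 1118, 1428, 3301, 488, 2420, 2116, 412, 61, 3016, 3916, 2532, 3540, 3057, 4086, 2227, 812, 1059, 2662, 112, 3897, 2410, 2303, 1685, 1530, 383, 3723, 1555, 1527, 2667, 3555, 111, 2846, 118, 2176, 685, 1792, 1069, 578, 1203, 1703, 2286, 3749, 1924, 3136, 3733, 1498, 1923, 3563, 3687, 2278, 2446, 3171, 3583, 1193, 1277, 625, 4088, 707, 1511, 3395, 932, 1456, 1655, 3268, 2117, 1960, 1756, 3543, 3236, 2280, 3178, 1514, 2903, 2580, 1013, 1644, 3040, 840, 2421, 3884, 3469, 1217, 736, 1624, 3801, 886, 166, 3124, 3663, 3471, 3556, 1449, 519, 2395, 45, 654, 1290, 315, 271, 245, 3480, 1905, 1832, 3485, 2136, 1786, 2953, 197, 3591, 1904, 3606, 1764, 2878, 3190, 2986, 2985, 101, 3280, 3660, 1836, 557, 3673, 3859, 1006, 3569, 1162, 1620, 1017, 3926, 3045, 1577, 2730, 3446, 168, 2469, 2336, 320, 409,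 499, 2915, 1365, 2335, 1619, 39, 4036, 3611, 374, 1641, 3506, 2745, 780, 3046, 1595, 188, 324, 2340, 2520, 601, 3082, 2611, 927, 3231, 2854, 598, 1137, 846, 3633, 2638, 2660, 2064, 2362, 1940, 4026, 4039, 527, 1282, 1382, 2138, 2795, 1890, 2958, 2110, 1830, 2950, 2770, 4033, 1339, 446, 2323, 238, 2111, 1706, 437, 1946, 2794, 2474, 436, 2839, 4054, 1852, 170, 2909, 1142, 3713, 2319, 2275, 698, 1623, 3626, 893, 2578, 355, 945, 2654, 1673, 215, 3324, 3415, 1816, 1523, 1160, 772, 2361, 1425, 3080, 2939, 798, 2851, 1462, 4093, 3530, 2162, 3121, 1811, 2237, 1575, 3372, 2066, 1164, 3534, 1820, 768, 3084, 2692, 1436, 323, 11, 1726, 3119, 833, 1878, 3210, 1061, 2339, 3849, 1772, 1846, 2720, 1801, 1130, 423, 826, 2011, 2261, 2493, 839, 1899, 1392, 475, 1219, 269, 3819, 1241, 2460, 2397, 884, 1795, 217, 3820, 3203, 1422, 854, 3114, 135, 206, 1724, 3704, 2571, 600, 127, 2557, 796, 2637, 3505, 2743, 791, 3632, 1400, 335, 2163, 1584,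 3055, 1254, 3747, 1918, 3861, 1433, 3531, 2332, 1408, 3097, 2115, 1116, 3707, 3508, 2552, 1171, 2995, 2501, 1704, 3970, 138, 3062, 3731, 1871, 1237, 2740, 1600, 3290, 784, 236, 2799, 3701, 508, 1591, 3223, 444, 3979, 368, 2632, 4046, 1567, 3459, 464, 177, 1263, 2786, 1627, 3745, 1583, 1845, 1552, 880, 4078, 2456, 1334, 3772, 996, 2003, 1742, 2573, 2166, 3454, 2413, 3276, 2715, 10, 1601, 3063, 2047, 509, 322, 3501, 2320, 2148, 3890, 1721, 468, 3565, 2478, 2074, 1271, 3811, 321, 2544, 954, 2691, 2793, 1454, 1412, 1288, 495, 4053, 3522, 3496, 162, 3048, 3272, 3617, 3311, 134, 1533, 805, 483, 2438, 2215, 2619, 2586, 232, 2653, 2568, 63, 525, 2430, 1877, 2742, 2161, 3307, 1869, 914, 1476, 1201, 738, 2188, 428, 637, 3138, 3386, 636, 1411, 2084, 2929, 2085, 1165, 2994, 3588, 1562, 2327, 769, 1092, 3399, 2368, 149, 909, 1711, 377, 83, 1154, 612, 1847, 3930, 1348, 1590, 453, 478, 1508, 179, 993, 2129, 1362, 1471, 2075, 1430, 1113,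 4011, 3497, 3523, 3987, 2351, 3928, 917, 1896, 3340, 142, 332, 580, 3682, 2671, 555, 1622, 354, 3781, 3270, 3712, 1310, 1633, 2274, 3498, 3224, 961, 1259, 1736, 730, 3466, 3370, 1227, 523, 1024, 2282, 538, 2313, 586, 2875, 3257, 2777, 3432, 3489, 1095, 2230, 2341, 1464, 847, 3047, 851, 1911, 392, 1738, 3131, 3825, 189, 325, 2661, 3310, 615, 1876, 1401, 2926, 1117, 1903, 3451, 3022, 1409, 2153, 3034, 3412, 759, 3817, 2749, 421, 1394, 2882, 2553, 1938, 930, 224, 670, 3476, 770, 2809, 2187, 2060, 3188, 2016, 1078, 1828, 661, 1959, 649, 427, 2768, 1993, 2721, 2389, 2403, 2492, 3981, 474, 747, 635, 1359, 2843, 1696, 3951, 1898, 2396, 1405, 1800, 2346, 1218, 268, 1240, 150, 1965, 1369, 3266, 1474, 1022, 2686, 554, 3780, 1194, 3154, 3685, 679, 1920, 1558, 2672, 1862, 680, 477, 3378, 1810, 129, 4024, 3078, 3413, 3354, 3406, 3126, 1881, 339, 2938, 978, 1777, 2360, 76, 277, 686, 3927, 3640, 2141, 1882, 1260, 3804, 1033, 3464, 3282,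 2644, 317, 2752, 3377, 2758, 2218, 3978, 353, 1101, 1335, 1553, 881, 2962, 3134, 907, 3425, 594, 3015, 1734, 2457, 3520, 3953, 1844, 1566, 2633, 4063, 2198, 2759, 3360, 3805, 2753, 195, 2808, 3641, 1375, 2284, 261, 2008, 666, 116, 2219, 3020, 2669, 514, 3593, 1752, 1325, 3907, 1618, 2334, 1431, 2930, 2857, 2112, 1008, 715, 3975, 1353, 1364, 2490, 38, 4085, 1964, 2750, 928, 2086, 694, 683, 1314, 2466, 3829, 570, 3766, 1368, 628, 3843, 1937, 830]),
  (1, [0, 17, 1, 16])]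

/-- The levels of the Sylow subgroup. -/
def LvP : List (ℕ × List (List ℕ)) := LvPc.map fun l => (l.1, l.2.map maskW)

/-- The words of the sequence. -/
def UU (a : ℕ) : List ℕ := (pcL.map PC.u).getD a []

/-- The action of the sequence. -/
def VV (a i : ℕ) : ℕ := walk V (UU a) i

/-- The parity of a letter. -/
def oddL (a : ℕ) : Bool := Nat.ble 4 a && !(gflag (a - 4))

/-- The parity of a word. -/
def parW (w : List ℕ) : Bool := w.foldr (fun a b => xor (oddL a) b) false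

theorem c_pc : pcWF pcL = true ∧ (∀ p ∈ pcL, p.o = 2) ∧ (relPos pcL).all (fun r => chkEq r.1 r.2) = true ∧
    (∀ p ∈ pcL, ∀ a ∈ p.u, a < 12) ∧ (relPos pcL).all (fun r => r.1.all (fun a => Nat.blt a 12) && r.2.all (fun a => Nat.blt a 12)) = true ∧
    ((pcL.map PC.o).prod = 4096) ∧ (pcL.map PC.u).length = 12 := by decide +kernel

theorem c_lev : levelsOK VV 1755 12 LvP = true ∧ (LvP.map fun l => l.2.length).prod = 4096 := by decide +kernel

theorem c_UU : ∀ a < 12, ∀ b ∈ UU a, b < 12 := by decide +kernel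

theorem c_par : (pcR.map PC.u).all (fun u => !(parW u)) = true := by decide +kernel

theorem c_Rl : ∀ u ∈ pcR.map PC.u, ∀ a ∈ u, a < 12 := by decide +kernel

theorem c_pR : ∀ p ∈ pcR, p.o = 2 := by decide +kernel

/-- The top element. -/
def topW : List ℕ := pcT.u

theorem c_odd : (allNf (pcR.map PC.u)).all (fun w => movesSq (topW ++ w)) = true := by decide +kernel

theorem c_allb : (allNf (pcR.map PC.u)).all (fun w => (topW ++ w).all fun a => Nat.blt a 12) = true := by decide +kernel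

namespace Rp

section main

open Cfsg.Agent.Lib.Chev

variable (R : Rep (ZMod 2) 2 add2 mul2)

local notation "T2" => (Cfsg.Lie.twistedF4 (ZMod 2) 1)

/-- The matrix of an element of the group. -/
noncomputable def iotaM : ↥T2 →* Matrix (Fin (dd chevF4)) (Fin (dd chevF4)) (ZMod 2) where
  toFun g := Matrix.reindex (eqv chevF4).symm (eqv chevF4).symm
    (((g.1 : GL chevF4.Idx (ZMod 2))) : Matrix chevF4.Idx chevF4.Idx (ZMod 2))
  map_one' := by
    ext i j
    simp [Matrix.one_apply]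
  map_mul' A B := by
    ext i j
    simp only [Matrix.reindex_apply, Matrix.submatrix_apply, Subgroup.coe_mul, Units.val_mul, Matrix.mul_apply]
    rw [← Equiv.sum_comp (eqv chevF4)]
    simp

theorem iotaM_val (x : ↥T2) (y : ↥(chevF4.group (ZMod 2))) (h : x.1 = y.1) :
    iotaM x = chHom chevF4 (ZMod 2) y := by
  ext i j
  rw [chHom_apply]
  show (((x.1 : GL chevF4.Idx (ZMod 2))) : Matrix chevF4.Idx chevF4.Idx (ZMod 2)) _ _ = _
  rw [h]
  rfl

theorem hLetM (w : List ℕ) (hw : ∀ a ∈ w, a < 12) (i : ℕ) (hi : i < 1755) :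
    walk V w i < 1755 ∧ iotaM (wval (lT R) w) *ᵥ toV R.φ (dd chevF4) (pt i) = toV R.φ (dd chevF4) (pt (walk V w i)) := by
  have h1 := word_pts (chHom chevF4 (ZMod 2)) (hLet R) w hw i hi
  rw [iotaM_val _ _ (wval_lT R w hw)]
  exact h1

theorem iotaM_inj : Function.Injective (iotaM) := by
  intro A B h
  apply Subtype.ext
  apply Units.ext
  ext i j
  have := congrFun (congrFun h ((eqv chevF4).symm i)) ((eqv chevF4).symm j)
  simpa [iotaM] using this

/-- Words agreeing on the base are equal. -/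
theorem heqW (w1 w2 : List ℕ) (h1 : ∀ a ∈ w1, a < 12) (h2 : ∀ a ∈ w2, a < 12) (h : chkEq w1 w2 = true) :
    wval (lT R) w1 = wval (lT R) w2 := by
  have e : (wval (lT R) w2)⁻¹ * wval (lT R) w1 = 1 := by
    apply iotaM_inj
    rw [map_one]
    refine eq_one_of_base_pack R _ c_xor (fun k => ptc (bsL.getD k 0)) Cp c_Cp c_two ?_
    intro k hk
    have hb := c_bsl k hk
    have h3 := hLetM R w1 h1 _ hb
    have h4 := hLetM R w2 h2 _ hb
    have hk' : k < bsL.length := hk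
    have hm : bsL.getD k 0 ∈ bsL := by
      rw [List.getD_eq_getElem _ _ hk']
      exact List.getElem_mem hk'
    have h5 : walk V w1 (bsL.getD k 0) = walk V w2 (bsL.getD k 0) :=
      Nat.eq_of_beq_eq_true (List.all_eq_true.mp h _ hm)
    have h6 : iotaM (wval (lT R) w1) *ᵥ toV R.φ (dd chevF4) (pt (bsL.getD k 0)) =
        iotaM (wval (lT R) w2) *ᵥ toV R.φ (dd chevF4) (pt (bsL.getD k 0)) := by
      rw [h3.2, h4.2, h5]
    simp only [hPu] at h6
    show iotaM ((wval (lT R) w2)⁻¹ * wval (lT R) w1) *ᵥ unp R.φ 1 (dd chevF4) (ptc (bsL.getD k 0)) = _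
    rw [map_mul, ← Matrix.mulVec_mulVec, h6, Matrix.mulVec_mulVec, ← map_mul, inv_mul_cancel, map_one, Matrix.one_mulVec]
  exact (inv_mul_eq_one.mp e).symm

theorem walk_of_one (w : List ℕ) (hw : ∀ a ∈ w, a < 12) (h : wval (lT R) w = 1) (i : ℕ) (hi : i < 1755) :
    walk V w i = i := by
  have h3 := hLetM R w hw i hi
  rw [h, map_one, Matrix.one_mulVec] at h3
  exact (hP R _ hi _ h3.1 h3.2).symm

/-- The Sylow subgroup. -/
noncomputable def P1 : Subgroup ↥T2 := chainSub ⊥ ((pcL.map PC.u).map (wval (lT R)))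

theorem hrelP : ∀ r ∈ relPos pcL, wval (lT R) r.1 = wval (lT R) r.2 := by
  intro r hr
  have h1 := List.all_eq_true.mp c_pc.2.2.1 r hr
  have h2 := List.all_eq_true.mp c_pc.2.2.2.2.1 r hr
  simp only [Bool.and_eq_true, List.all_eq_true] at h2
  exact heqW R r.1 r.2 (fun a ha => Nat.le_of_ble_eq_true (h2.1 a ha)) (fun a ha => Nat.le_of_ble_eq_true (h2.2 a ha)) h1

theorem hchain : ChainOK (⊥ : Subgroup ↥T2) (pcL.map fun p => (wval (lT R) p.u, p.o)) :=
  chain_of_pos _ pcL c_pc.1 (hrelP R)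

theorem card_P1_le : Nat.card (P1 R) ≤ 4096 := by
  have h := card_chain (⊥ : Subgroup ↥T2) _ (hchain R)
  have e1 : ((pcL.map fun p => (wval (lT R) p.u, p.o)).map Prod.fst) = (pcL.map PC.u).map (wval (lT R)) := by
    simp [List.map_map, Function.comp_def]
  have e2 : ((pcL.map fun p => (wval (lT R) p.u, p.o)).map Prod.snd) = pcL.map PC.o := by
    simp [List.map_map, Function.comp_def]
  rw [e1, e2, c_pc.2.2.2.2.2.1] at h
  simpa [P1] using h

theorem mem_P1 (a : ℕ) (ha : a < 12) : wval (lT R) (UU a) ∈ P1 R := by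
  apply mem_chainSub
  refine List.mem_map.mpr ⟨UU a, ?_, rfl⟩
  have hl : a < (pcL.map PC.u).length := by
    rw [c_pc.2.2.2.2.2.2]
    exact ha
  rw [UU, List.getD_eq_getElem _ _ hl]
  exact List.getElem_mem hl

/-- The sequence, in the subgroup. -/
noncomputable def gP (a : ℕ) : ↥(P1 R) := if h : a < 12 then ⟨wval (lT R) (UU a), mem_P1 R a h⟩ else 1

theorem card_P1_ge : 4096 ≤ Nat.card (P1 R) := by
  have h := card_ge_levels (iotaM.comp (P1 R).subtype) (gP R) VV (fun i => toV R.φ (dd chevF4) (pt i)) 12 1755 (by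
    intro a ha i hi
    have e : (gP R a).1 = wval (lT R) (UU a) := by simp [gP, ha]
    show VV a i < 1755 ∧ iotaM ((gP R a).1) *ᵥ _ = _
    rw [e]
    exact hLetM R (UU a) (c_UU a ha) i hi) (hP R) LvP c_lev.1
  rwa [c_lev.2] at h

theorem card_P1 : Nat.card (P1 R) = 4096 := le_antisymm (card_P1_le R) (card_P1_ge R)

local notation "KT" => (commutator (Cfsg.Lie.twistedF4 (ZMod 2) 1))

theorem comm_KK : KK R ≤ KT := by
  show Subgroup.closure _ ≤ _
  rw [Subgroup.closure_le]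
  rintro _ ⟨a, ha, rfl⟩
  exact hcommT4 R a ha

theorem s2K : ss R * ss R ∈ KT := by
  have h := heqT R (sl :: sl :: s2w) (by
    intro b hb
    simp only [List.mem_cons] at hb
    rcases hb with rfl | rfl | hb
    · decide
    · decide
    · have := c_wl.2.2.1 b hb
      omega) c_s2
  simp only [wval_cons] at h
  have h2 : lT R sl * lT R sl = (wval (lT R) s2w)⁻¹ := by
    rw [← mul_assoc] at h
    exact eq_inv_of_mul_eq_one_left h
  show lT R sl * lT R sl ∈ _
  rw [h2]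
  exact inv_mem (comm_KK R (mem_KK R _ c_wl.2.2.1))

theorem letter_par (a : ℕ) (ha : a < 12) : (oddL a = false → lT R a ∈ KT) ∧
    (oddL a = true → (ss R)⁻¹ * lT R a ∈ KT) := by
  by_cases h : a < 4
  · have h0 : oddL a = false := by
      have h9 : Nat.ble 4 a = false := by
        rw [← Bool.not_eq_true, Nat.ble_eq]
        omega
      simp only [oddL, h9, Bool.false_and]
    refine ⟨fun _ => hcommT4 R a h, fun h1 => ?_⟩
    rw [h0] at h1
    exact absurd h1 (by decide)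
  · obtain ⟨k, rfl⟩ : ∃ k, a = k + 4 := ⟨a - 4, by omega⟩
    have hk' : k < 8 := by omega
    have h0 : oddL (k + 4) = !(gflag k) := by
      simp only [oddL, Nat.add_sub_cancel]
      have : Nat.ble 4 (k + 4) = true := Nat.ble_eq_true_of_le (by omega)
      rw [this]
      rfl
    have hl : (∀ b ∈ gq k, b < 12) := fun b hb => by
      have := c_wl.2.1 k hk' b hb
      omega
    rcases c_gq k hk' with ⟨hf, h⟩ | ⟨hf, h⟩
    · rw [h0, hf]
      refine ⟨fun _ => ?_, fun h1 => absurd h1 (by decide)⟩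
      have h3 := heqT R ((k + 4) :: gq k) (by
        intro b hb
        simp only [List.mem_cons] at hb
        rcases hb with rfl | hb
        · omega
        · exact hl b hb) h
      rw [wval_cons] at h3
      rw [eq_inv_of_mul_eq_one_left h3]
      exact inv_mem (comm_KK R (mem_KK R _ (c_wl.2.1 k hk')))
    · rw [h0, hf]
      refine ⟨fun h1 => absurd h1 (by decide), fun _ => ?_⟩
      have h3 := heqT R (siw ++ ((k + 4) :: gq k)) (by
        intro b hb
        simp only [List.mem_append, List.mem_cons] at hb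
        rcases hb with hb | rfl | hb
        · exact c_wl.2.2.2 b hb
        · omega
        · exact hl b hb) h
      rw [wval_append, wval_cons, wval_siw] at h3
      rw [← mul_assoc] at h3
      rw [eq_inv_of_mul_eq_one_left h3]
      exact inv_mem (comm_KK R (mem_KK R _ (c_wl.2.1 k hk')))

theorem par_mem (w : List ℕ) (hw : ∀ a ∈ w, a < 12) : (parW w = false → wval (lT R) w ∈ KT) ∧
    (parW w = true → (ss R)⁻¹ * wval (lT R) w ∈ KT) := by
  induction w with
  | nil =>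
    refine ⟨fun _ => one_mem _, fun h => absurd h (by decide)⟩
  | cons a w ih =>
    obtain ⟨ih1, ih2⟩ := ih (fun b hb => hw b (by simp [hb]))
    obtain ⟨la, lb⟩ := letter_par R a (hw a (by simp))
    have hN : (KT).Normal := inferInstance
    have e : parW (a :: w) = xor (oddL a) (parW w) := rfl
    rw [e, wval_cons]
    rcases ha : oddL a <;> rcases hb : parW w
    · refine ⟨fun _ => mul_mem (la ha) (ih1 hb), fun h => absurd h (by decide)⟩
    · refine ⟨fun h => absurd h (by decide), fun _ => ?_⟩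
      have e2 : (ss R)⁻¹ * (lT R a * wval (lT R) w) = (ss R)⁻¹ * lT R a * ((ss R)⁻¹)⁻¹ * ((ss R)⁻¹ * wval (lT R) w) := by group
      rw [e2]
      exact mul_mem (hN.conj_mem _ (la ha) _) (ih2 hb)
    · refine ⟨fun h => absurd h (by decide), fun _ => ?_⟩
      rw [← mul_assoc]
      exact mul_mem (lb ha) (ih1 hb)
    · refine ⟨fun _ => ?_, fun h => absurd h (by decide)⟩
      have e2 : lT R a * wval (lT R) w = (ss R * ss R) * ((ss R)⁻¹ * ((ss R)⁻¹ * lT R a) * ((ss R)⁻¹)⁻¹) * ((ss R)⁻¹ * wval (lT R) w) := by group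
      rw [e2]
      exact mul_mem (mul_mem (s2K R) (hN.conj_mem _ (lb ha) _)) (ih2 hb)

theorem cover (x : ↥T2) : x ∈ KT ∨ (ss R)⁻¹ * x ∈ KT := by
  have hN : (KT).Normal := inferInstance
  have h1 : (⊤ : Subgroup ↥T2) ≤ Subgroup.closure ({ss R} ∪ ((KT : Subgroup ↥T2) : Set ↥T2)) := by
    rw [← hclosureT R, Subgroup.closure_le]
    rintro _ ⟨k, hk, rfl⟩
    have hk' : k < 8 := hk
    obtain ⟨la, lb⟩ := letter_par R (k + 4) (by omega)
    have hs : ss R ∈ Subgroup.closure ({ss R} ∪ ((KT : Subgroup ↥T2) : Set ↥T2)) := Subgroup.subset_closure (Or.inl rfl)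
    rcases ha : oddL (k + 4)
    · exact Subgroup.subset_closure (Or.inr (la ha))
    · have e : lT R (k + 4) = ss R * ((ss R)⁻¹ * lT R (k + 4)) := by group
      show lT R (k + 4) ∈ _
      rw [e]
      exact mul_mem hs (Subgroup.subset_closure (Or.inr (lb ha)))
  exact step_shape _ (ss R) (fun y hy => hN.conj_mem y hy _) (by rw [pow_two]; exact s2K R) x (h1 (mem_top x))

include R in
theorem card_T2_le : Nat.card ↥T2 ≤ 2 * 17971200 := by
  classical
  have hK : Nat.card ↥(KT) = 17971200 := hcard R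
  let f : Bool × ↥(KT) → ↥T2 := fun p => cond p.1 (ss R * p.2) p.2
  have hf : Function.Surjective f := by
    intro x
    rcases cover R x with h | h
    · exact ⟨(false, ⟨x, h⟩), rfl⟩
    · exact ⟨(true, ⟨_, h⟩), mul_inv_cancel_left _ _⟩
  have h5 : Nat.card (Bool × ↥(KT)) = 2 * 17971200 := by
    rw [Nat.card_prod, hK, Nat.card_eq_fintype_card, Fintype.card_bool]
  rw [← h5]
  exact Nat.card_le_card_of_surjective f hf

include R in
theorem card_T2 : Nat.card ↥T2 = 35942400 := by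
  have h1 := card_T2_le R
  have h2 : 4096 ∣ Nat.card ↥T2 := by
    rw [← card_P1 R]
    exact Subgroup.card_subgroup_dvd_card _
  have h3 : 17971200 ∣ Nat.card ↥T2 := by
    have hK : Nat.card ↥(KT) = 17971200 := hcard R
    rw [← hK]
    exact Subgroup.card_subgroup_dvd_card _
  have h4 : 0 < Nat.card ↥T2 := Nat.card_pos
  obtain ⟨c, hc⟩ := h3
  obtain ⟨d, hd⟩ := h2
  omega

theorem inv_P1 (y : ↥T2) (hy : y ∈ P1 R) (h2 : y * y = 1) : y ∈ KT := by
  have hc : ChainOK (⊥ : Subgroup ↥T2) ((pcT :: pcR).map fun p => (wval (lT R) p.u, p.o)) := hchain R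
  obtain ⟨_, c2, c3, c4⟩ := hc
  have hmap : (pcR.map fun p => (wval (lT R) p.u, p.o)).map Prod.fst = (pcR.map PC.u).map (wval (lT R)) := by
    simp [List.map_map, Function.comp_def]
  rw [hmap] at c2 c3
  have hy' : y ∈ Subgroup.closure ({wval (lT R) pcT.u} ∪ (chainSub (⊥ : Subgroup ↥T2) ((pcR.map PC.u).map (wval (lT R))) : Set ↥T2)) := hy
  have hle : chainSub (⊥ : Subgroup ↥T2) ((pcR.map PC.u).map (wval (lT R))) ≤ KT := by
    refine chainSub_le _ _ bot_le _ ?_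
    intro v hv
    obtain ⟨u, hu, rfl⟩ := List.mem_map.mp hv
    have h3 := List.all_eq_true.mp c_par u hu
    have h4 : parW u = false := by simpa using h3
    exact (par_mem R u (c_Rl u hu)).1 h4
  rcases step_shape _ _ c3 c2 y hy' with h | h
  · exact hle h
  · exfalso
    obtain ⟨w, hw, e⟩ := mem_allNf (lT R) pcR (fun p hp => c_pR p hp) c4 _ h
    have e2 : y = wval (lT R) (topW ++ w) := by
      rw [wval_append, ← e, show topW = pcT.u from rfl]
      group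
    have h3 := List.all_eq_true.mp c_odd w hw
    have h4 := List.all_eq_true.mp c_allb w hw
    have hl : ∀ a ∈ (topW ++ w) ++ (topW ++ w), a < 12 := by
      intro a ha
      rw [List.mem_append, or_self] at ha
      exact Nat.le_of_ble_eq_true (List.all_eq_true.mp h4 a ha)
    have h5 : wval (lT R) ((topW ++ w) ++ (topW ++ w)) = 1 := by
      rw [wval_append, ← e2]
      exact h2
    simp only [movesSq, List.any_eq_true] at h3
    obtain ⟨p, hp, hm⟩ := h3
    have hp' : p < 1755 := c_pts p hp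
    have h6 := walk_of_one R _ hl h5 p hp'
    rw [h6] at hm
    simp at hm

end main

end Rp

local notation "T2'" => (Cfsg.Lie.twistedF4 (ZMod 2) 1)

/-- The factorisation used. -/
theorem fact2 : (35942400 : ℕ).factorization 2 = 12 := by
  rw [show (35942400 : ℕ) = 2 ^ 12 * 8775 by norm_num, Nat.factorization_mul (by norm_num) (by norm_num),
    Nat.factorization_pow]
  simp [Nat.Prime.factorization Nat.prime_two, Nat.factorization_eq_zero_of_not_dvd (show ¬ 2 ∣ 8775 by norm_num)]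

/-- The involutions of the group are in the derived group. -/
theorem inv_mem_comm (g : ↥T2') (hg : orderOf g = 2) : g ∈ commutator ↥T2' := by
  classical
  obtain ⟨R⟩ := exists_rep2 (F := ZMod 2) (ZMod.card 2)
  have hc := Rp.card_T2 R
  have hP := Rp.card_P1 R
  have : Fact (Nat.Prime 2) := ⟨Nat.prime_two⟩
  let S : Sylow 2 ↥T2' := Sylow.ofCard (Rp.P1 R) (by rw [hP, hc, fact2]; norm_num)
  have hSc : (S : Subgroup ↥T2') = Rp.P1 R := rfl
  have hp : IsPGroup 2 (zpowers g) := IsPGroup.of_card (n := 1) (by rw [Nat.card_zpowers, hg]; norm_num)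
  obtain ⟨Q, hQ⟩ := hp.exists_le_sylow
  obtain ⟨h, hh⟩ := MulAction.exists_smul_eq ↥T2' Q S
  have hgQ : g ∈ (Q : Subgroup ↥T2') := hQ (mem_zpowers g)
  have h1 : MulAut.conj h • g ∈ MulAut.conj h • (Q : Subgroup ↥T2') := Subgroup.smul_mem_pointwise_smul _ _ _ hgQ
  have h2 : (MulAut.conj h • (Q : Subgroup ↥T2')) = Rp.P1 R := by
    rw [← hSc, ← hh]
    rfl
  rw [h2] at h1
  have hy : h * g * h⁻¹ ∈ Rp.P1 R := by simpa [MulAut.smul_def, MulAut.conj_apply] using h1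
  have hg2 : g * g = 1 := by
    have h9 := pow_orderOf_eq_one g
    rw [hg, pow_two] at h9
    exact h9
  have h3 := Rp.inv_P1 R _ hy (by
    have : h * g * h⁻¹ * (h * g * h⁻¹) = h * (g * g) * h⁻¹ := by group
    rw [this, hg2]
    group)
  have hN : (commutator ↥T2').Normal := inferInstance
  have h4 := hN.conj_mem _ h3 h⁻¹
  have e : h⁻¹ * (h * g * h⁻¹) * h⁻¹⁻¹ = g := by group
  rwa [e] at h4

end Cfsg.Agent.Lib.KnownSimple.TitsLab
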