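import Cfsg.Agent.Lib.KnownSimple.TitsLab.RepD

/-! The action of a generator on the points. -/

set_option autoImplicit false
set_option maxRecDepth 100000

namespace Cfsg.Agent.Lib.KnownSimple.TitsLab

open Cfsg.Agent.Lib.KnownSimple.Lab Cfsg.Agent.Lib.KnownSimple.LabPack

theorem hVc4 : allI (fun i => Nat.blt (V (4 + 4) i) 1755 &&
    Nat.beq (mvw colsR (LW 4) (ptc i)) (ptc (V (4 + 4) i))) 0 1755 = true := by decide +kernel

theorem hVc5 : allI (fun i => Nat.blt (V (5 + 4) i) 1755 &&
    Nat.beq (mvw colsR (LW 5) (ptc i)) (ptc (V (5 + 4) i))) 0 1755 = true := by decide +kernel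

end Cfsg.Agent.Lib.KnownSimple.TitsLab
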