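-- Generated: the letters of the Tits group.
import Cfsg.Agent.Lib.KnownSimple.TitsLab.Final
import Cfsg.Agent.Lib.KnownSimple.TitsLab.RepV0
import Cfsg.Agent.Lib.KnownSimple.TitsLab.RepV1
import Cfsg.Agent.Lib.KnownSimple.TitsLab.RepV2
import Cfsg.Agent.Lib.KnownSimple.TitsLab.RepV3

set_option autoImplicit false
set_option maxRecDepth 100000

namespace Cfsg.Agent.Lib.KnownSimple.TitsLab

open Cfsg.Agent.Lib.KnownSimple.Lab Cfsg.Agent.Lib.KnownSimple.LabMat Cfsg.Agent.Lib.KnownSimple.LabField
open Cfsg.Agent.Lib.KnownSimple.LabVec Cfsg.Agent.Lib.KnownSimple.LabChev Cfsg.Agent.Lib.KnownSimple.LabPack Cfsg.Lie Subgroup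
open Cfsg.Agent.Lib.KnownSimple.LabLevels Cfsg.Agent.Lib.KnownSimple
open scoped Matrix

/-- The root elements used. -/
def RL : List (ℕ × ℕ) := [(33, 1), (24, 1), (14, 1), (23, 1), (27, 1), (25, 1), (28, 1), (30, 1), (20, 1), (22, 1), (19, 1), (17, 1)]

/-- The root elements used, as sparse matrices. -/
def SL : List (List (List (ℕ × ℕ))) := [[[(0,1),(18,1)],[(1,1)],[(2,1)],[(3,1)],[(4,1)],[(5,1)],[(6,1)],[(7,1)],[(8,1)],[(9,1)],[(10,1)],[(7,1),(11,1)],[(8,1),(12,1)],[(9,1),(13,1)],[(10,1),(14,1)],[(15,1)],[(16,1)],[(17,1)],[(18,1)],[(8,1),(19,1)],[(9,1),(20,1)],[(10,1),(21,1)],[(15,1),(22,1)],[(16,1),(23,1)],[(17,1),(24,1)],[(25,1)],[(26,1)],[(27,1)],[(28,1)],[(29,1)],[(30,1)],[(31,1)],[(32,1)],[(33,1)],[(34,1)],[(35,1)],[(36,1)],[(1,1),(18,1),(37,1)],[(31,1),(38,1)],[(32,1),(39,1)],[(33,1),(40,1)],[(34,1),(41,1)],[(35,1),(42,1)],[(36,1),(43,1)],[(44,1)],[(34,1),(45,1)],[(35,1),(46,1)],[(36,1),(47,1)],[(44,1),(48,1)],[(49,1)],[(50,1)],[(51,1)]],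
  [[(0,1)],[(1,1)],[(2,1)],[(3,1),(27,1)],[(4,1)],[(4,1),(5,1)],[(6,1)],[(7,1)],[(8,1)],[(9,1)],[(9,1),(10,1)],[(11,1)],[(12,1)],[(13,1)],[(13,1),(14,1)],[(15,1)],[(15,1),(16,1)],[(17,1)],[(18,1)],[(19,1)],[(20,1)],[(20,1),(21,1)],[(22,1)],[(22,1),(23,1)],[(24,1)],[(25,1)],[(25,1),(26,1)],[(27,1)],[(2,1),(27,1),(28,1)],[(29,1)],[(29,1),(30,1)],[(31,1)],[(32,1)],[(32,1),(33,1)],[(34,1)],[(34,1),(35,1)],[(36,1)],[(37,1)],[(38,1)],[(39,1)],[(39,1),(40,1)],[(41,1)],[(41,1),(42,1)],[(43,1)],[(44,1)],[(45,1)],[(45,1),(46,1)],[(47,1)],[(48,1)],[(49,1)],[(50,1)],[(50,1),(51,1)]],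
  [[(0,1),(37,1)],[(1,1)],[(2,1)],[(3,1)],[(4,1)],[(5,1)],[(6,1)],[(7,1),(11,1)],[(8,1),(19,1)],[(9,1),(20,1)],[(10,1),(21,1)],[(11,1)],[(12,1),(19,1)],[(13,1),(20,1)],[(14,1),(21,1)],[(15,1),(22,1)],[(16,1),(23,1)],[(17,1),(24,1)],[(1,1),(18,1),(37,1)],[(19,1)],[(20,1)],[(21,1)],[(22,1)],[(23,1)],[(24,1)],[(25,1)],[(26,1)],[(27,1)],[(28,1)],[(29,1)],[(30,1)],[(31,1),(38,1)],[(32,1),(39,1)],[(33,1),(40,1)],[(34,1),(45,1)],[(35,1),(46,1)],[(36,1),(47,1)],[(37,1)],[(38,1)],[(39,1)],[(40,1)],[(41,1),(45,1)],[(42,1),(46,1)],[(43,1),(47,1)],[(44,1),(48,1)],[(45,1)],[(46,1)],[(47,1)],[(48,1)],[(49,1)],[(50,1)],[(51,1)]],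
  [[(0,1)],[(1,1)],[(2,1)],[(3,1),(28,1)],[(4,1),(5,1)],[(5,1)],[(6,1)],[(7,1)],[(8,1)],[(9,1),(10,1)],[(10,1)],[(11,1)],[(12,1)],[(13,1),(14,1)],[(14,1)],[(15,1),(16,1)],[(16,1)],[(17,1)],[(18,1)],[(19,1)],[(20,1),(21,1)],[(21,1)],[(22,1),(23,1)],[(23,1)],[(24,1)],[(25,1),(26,1)],[(26,1)],[(2,1),(27,1),(28,1)],[(28,1)],[(29,1),(30,1)],[(30,1)],[(31,1)],[(32,1),(33,1)],[(33,1)],[(34,1),(35,1)],[(35,1)],[(36,1)],[(37,1)],[(38,1)],[(39,1),(40,1)],[(40,1)],[(41,1),(42,1)],[(42,1)],[(43,1)],[(44,1)],[(45,1),(46,1)],[(46,1)],[(47,1)],[(48,1)],[(49,1)],[(50,1),(51,1)],[(51,1)]],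
  [[(0,1)],[(1,1),(24,1)],[(2,1)],[(3,1)],[(4,1)],[(5,1)],[(6,1)],[(6,1),(7,1)],[(6,1),(8,1)],[(9,1)],[(10,1)],[(11,1)],[(11,1),(12,1)],[(13,1)],[(14,1)],[(13,1),(15,1)],[(14,1),(16,1)],[(17,1)],[(17,1),(18,1)],[(19,1)],[(20,1)],[(21,1)],[(20,1),(22,1)],[(21,1),(23,1)],[(24,1)],[(20,1),(25,1)],[(21,1),(26,1)],[(27,1)],[(28,1)],[(29,1)],[(30,1)],[(0,1),(2,1),(24,1),(31,1)],[(29,1),(32,1)],[(30,1),(33,1)],[(29,1),(34,1)],[(30,1),(35,1)],[(36,1)],[(37,1)],[(37,1),(38,1)],[(39,1)],[(40,1)],[(39,1),(41,1)],[(40,1),(42,1)],[(43,1)],[(43,1),(44,1)],[(45,1)],[(46,1)],[(47,1)],[(47,1),(48,1)],[(47,1),(49,1)],[(50,1)],[(51,1)]],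
  [[(0,1)],[(1,1)],[(2,1),(26,1)],[(3,1)],[(4,1)],[(5,1)],[(5,1),(6,1)],[(7,1)],[(8,1)],[(8,1),(9,1)],[(10,1)],[(11,1)],[(12,1)],[(12,1),(13,1)],[(14,1)],[(15,1)],[(16,1)],[(16,1),(17,1)],[(18,1)],[(19,1)],[(19,1),(20,1)],[(21,1)],[(22,1)],[(23,1)],[(23,1),(24,1)],[(25,1)],[(26,1)],[(25,1),(27,1)],[(28,1)],[(3,1),(26,1),(29,1)],[(28,1),(30,1)],[(31,1)],[(31,1),(32,1)],[(33,1)],[(34,1)],[(35,1)],[(35,1),(36,1)],[(37,1)],[(38,1)],[(38,1),(39,1)],[(40,1)],[(41,1)],[(42,1)],[(42,1),(43,1)],[(44,1)],[(45,1)],[(46,1)],[(46,1),(47,1)],[(48,1)],[(49,1)],[(49,1),(50,1)],[(51,1)]],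
  [[(0,1)],[(1,1),(23,1)],[(2,1)],[(3,1)],[(4,1)],[(5,1)],[(6,1)],[(5,1),(7,1)],[(8,1)],[(5,1),(9,1)],[(10,1)],[(11,1)],[(12,1)],[(11,1),(13,1)],[(14,1)],[(12,1),(15,1)],[(16,1)],[(14,1),(17,1)],[(16,1),(18,1)],[(19,1)],[(20,1)],[(21,1)],[(19,1),(22,1)],[(23,1)],[(21,1),(24,1)],[(25,1)],[(26,1)],[(19,1),(27,1)],[(28,1)],[(21,1),(29,1)],[(30,1)],[(26,1),(31,1)],[(0,1),(2,1),(3,1),(23,1),(32,1)],[(28,1),(33,1)],[(26,1),(34,1)],[(35,1)],[(28,1),(36,1)],[(37,1)],[(38,1)],[(37,1),(39,1)],[(40,1)],[(38,1),(41,1)],[(42,1)],[(40,1),(43,1)],[(42,1),(44,1)],[(45,1)],[(46,1)],[(47,1)],[(46,1),(48,1)],[(49,1)],[(46,1),(50,1)],[(51,1)]],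
  [[(0,1)],[(1,1),(21,1)],[(2,1),(21,1)],[(3,1)],[(4,1)],[(5,1)],[(6,1)],[(7,1)],[(5,1),(8,1)],[(6,1),(9,1)],[(10,1)],[(11,1)],[(12,1)],[(13,1)],[(14,1)],[(11,1),(15,1)],[(16,1)],[(17,1)],[(14,1),(18,1)],[(19,1)],[(20,1)],[(21,1)],[(22,1)],[(23,1)],[(24,1)],[(19,1),(25,1)],[(26,1)],[(20,1),(27,1)],[(28,1)],[(29,1)],[(30,1)],[(23,1),(31,1)],[(24,1),(32,1)],[(33,1)],[(3,1),(21,1),(34,1)],[(28,1),(35,1)],[(30,1),(36,1)],[(37,1)],[(38,1)],[(39,1)],[(40,1)],[(37,1),(41,1)],[(42,1)],[(43,1)],[(40,1),(44,1)],[(45,1)],[(46,1)],[(47,1)],[(48,1)],[(46,1),(49,1)],[(47,1),(50,1)],[(51,1)]],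
  [[(0,1)],[(1,1),(31,1)],[(2,1)],[(3,1)],[(4,1)],[(5,1)],[(6,1),(8,1)],[(7,1),(8,1)],[(8,1)],[(9,1)],[(10,1)],[(11,1),(12,1)],[(12,1)],[(13,1),(15,1)],[(14,1),(16,1)],[(15,1)],[(16,1)],[(17,1),(18,1)],[(18,1)],[(19,1)],[(20,1),(25,1)],[(21,1),(26,1)],[(22,1),(25,1)],[(23,1),(26,1)],[(0,1),(2,1),(24,1),(31,1)],[(25,1)],[(26,1)],[(27,1)],[(28,1)],[(29,1),(34,1)],[(30,1),(35,1)],[(31,1)],[(32,1),(34,1)],[(33,1),(35,1)],[(34,1)],[(35,1)],[(36,1)],[(37,1),(38,1)],[(38,1)],[(39,1),(41,1)],[(40,1),(42,1)],[(41,1)],[(42,1)],[(43,1),(44,1)],[(44,1)],[(45,1)],[(46,1)],[(47,1),(49,1)],[(48,1),(49,1)],[(49,1)],[(50,1)],[(51,1)]],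
  [[(0,1)],[(1,1)],[(2,1),(29,1)],[(3,1)],[(4,1)],[(5,1),(6,1)],[(6,1)],[(7,1)],[(8,1),(9,1)],[(9,1)],[(10,1)],[(11,1)],[(12,1),(13,1)],[(13,1)],[(14,1)],[(15,1)],[(16,1),(17,1)],[(17,1)],[(18,1)],[(19,1),(20,1)],[(20,1)],[(21,1)],[(22,1)],[(23,1),(24,1)],[(24,1)],[(25,1),(27,1)],[(3,1),(26,1),(29,1)],[(27,1)],[(28,1),(30,1)],[(29,1)],[(30,1)],[(31,1),(32,1)],[(32,1)],[(33,1)],[(34,1)],[(35,1),(36,1)],[(36,1)],[(37,1)],[(38,1),(39,1)],[(39,1)],[(40,1)],[(41,1)],[(42,1),(43,1)],[(43,1)],[(44,1)],[(45,1)],[(46,1),(47,1)],[(47,1)],[(48,1)],[(49,1),(50,1)],[(50,1)],[(51,1)]],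
  [[(0,1)],[(1,1),(32,1)],[(2,1)],[(3,1)],[(4,1)],[(5,1),(9,1)],[(6,1)],[(7,1),(9,1)],[(8,1)],[(9,1)],[(10,1)],[(11,1),(13,1)],[(12,1),(15,1)],[(13,1)],[(14,1),(17,1)],[(15,1)],[(16,1),(18,1)],[(17,1)],[(18,1)],[(19,1),(27,1)],[(20,1)],[(21,1),(29,1)],[(22,1),(27,1)],[(0,1),(2,1),(3,1),(23,1),(32,1)],[(24,1),(29,1)],[(25,1)],[(26,1),(34,1)],[(27,1)],[(28,1),(36,1)],[(29,1)],[(30,1)],[(31,1),(34,1)],[(32,1)],[(33,1),(36,1)],[(34,1)],[(35,1)],[(36,1)],[(37,1),(39,1)],[(38,1),(41,1)],[(39,1)],[(40,1),(43,1)],[(41,1)],[(42,1),(44,1)],[(43,1)],[(44,1)],[(45,1)],[(46,1),(50,1)],[(47,1)],[(48,1),(50,1)],[(49,1)],[(50,1)],[(51,1)]],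
  [[(0,1)],[(1,1),(34,1)],[(2,1),(34,1)],[(3,1)],[(4,1)],[(5,1),(8,1)],[(6,1),(9,1)],[(7,1)],[(8,1)],[(9,1)],[(10,1)],[(11,1),(15,1)],[(12,1)],[(13,1)],[(14,1),(18,1)],[(15,1)],[(16,1)],[(17,1)],[(18,1)],[(19,1),(25,1)],[(20,1),(27,1)],[(3,1),(21,1),(34,1)],[(22,1)],[(23,1),(31,1)],[(24,1),(32,1)],[(25,1)],[(26,1)],[(27,1)],[(28,1),(35,1)],[(29,1)],[(30,1),(36,1)],[(31,1)],[(32,1)],[(33,1)],[(34,1)],[(35,1)],[(36,1)],[(37,1),(41,1)],[(38,1)],[(39,1)],[(40,1),(44,1)],[(41,1)],[(42,1)],[(43,1)],[(44,1)],[(45,1)],[(46,1),(49,1)],[(47,1),(50,1)],[(48,1)],[(49,1)],[(50,1)],[(51,1)]]]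

/-- The words of the letters in the generators. -/
def twL : List (List ℕ) := [[7, 1, 6, 0, 1, 6, 3, 0, 3, 1, 7, 2, 0, 4, 0, 1, 5, 4], [5, 2, 1, 0, 2, 0, 2, 6, 3, 0, 2, 1, 6, 1, 6, 0, 4], [2, 0, 1, 6, 0, 3, 1, 7, 1, 6, 0, 4, 0, 3, 0, 1, 7, 0], [4, 5, 1, 0, 2, 1, 7, 0, 1, 6, 4, 1, 0, 3, 0, 3, 7]]

/-- The words of the letters in the generators. -/
def tw (a : ℕ) : List ℕ := twL.getD a []

/-- The code of an integer. -/
def ic (z : ℤ) : ℕ := icC 2 z

/-- The inverse of the base, packed. -/
def CpL : List ℕ := [9953675300, 4786208, 89514723624, 51623513816, 1, 2, 878, 864, 888, 4, 903348406, 783, 1752, 60270, 14362624, 7033, 14156751, 12995341, 15597899, 975, 889438972, 32, 889620785, 50332621, 6375401487, 892743463, 3319267543, 19321, 83887053, 917701126746, 109037842624243, 86200175154, 824633740157, 2660143277360, 2048, 952638188651326, 1374389554045, 4191929586, 114475676590, 2588627226149, 109064710791694, 5040648039954, 223688831541806, 1089482858114339, 961187361230631, 1035239027934978, 16777216, 3377699804414957,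 3413159037633517, 3659449642255341, 274877906944, 1125899906842624]

/-- The inverse of the base, packed. -/
def Cp (j : ℕ) : ℕ := CpL.getD j 0

theorem c_RL : ∀ j < RL.length, (RL.getD j (0, 0)).1 < chevF4.nroots ∧
    chkX add2 mul2 ic chevF4 (RL.getD j (0, 0)).1 (RL.getD j (0, 0)).2 (SL.getD j []) = true := by decide +kernel

theorem c_LWl : ∀ a < 8, ∀ j ∈ LW a, j < RL.length := by decide +kernel

theorem c_colsR : ∀ j < RL.length, (colsR j).length = dd chevF4 ∧ ∀ k < dd chevF4, ∀ c < 2, ∀ i < dd chevF4,
    dig 1 (nthL ((colsR j).getD k []) c) i = mul2 c (entryS add2 ((SL.getD j []).getD i []) k) := by decide +kernel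

theorem c_xor : ∀ x < 2 ^ 1, ∀ y < 2 ^ 1, add2 x y = x ^^^ y := by decide +kernel

theorem hVall : ∀ a < 8, allI (fun i => Nat.blt (V (a + 4) i) 1755 &&
    Nat.beq (mvw colsR (LW a) (ptc i)) (ptc (V (a + 4) i))) 0 1755 = true := by
  intro a ha
  interval_cases a
  · exact hVc0
  · exact hVc1
  · exact hVc2
  · exact hVc3
  · exact hVc4
  · exact hVc5
  · exact hVc6
  · exact hVc7

theorem hVtw : ∀ a < 4, allI (fun i => Nat.beq (V a i) (walk (fun b => V (b + 4)) (tw a) i)) 0 1755 = true := by decide +kernel

theorem c_twl : ∀ a < 4, ∀ b ∈ tw a, b < 8 := by decide +kernel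

theorem c_Cp : ∀ j < dd chevF4, mvP 1 2 ((List.range (dd chevF4)).map fun k => [0, ptc (bsL.getD k 0)]) (Cp j) 0 = 2 ^ j := by decide +kernel

theorem c_two : ∀ i < dd chevF4, ∀ j < dd chevF4, dig 1 (2 ^ j) i = if i = j then 1 else 0 := by decide +kernel

theorem c_bsl : ∀ j < dd chevF4, bsL.getD j 0 < 1755 := by decide +kernel

/-- The decoding of a point. -/
def enc : List ℕ → ℕ
  | [] => 0
  | a :: l => a + 2 * enc l

theorem c_enc : allI (fun i => Nat.beq (enc (pt i)) (ptc i) && (pt i).all (fun b => Nat.blt b 2)) 0 1755 = true := by decide +kernel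

theorem c_incr : allI (fun i => Nat.blt (ptc i) (ptc (i + 1))) 0 1754 = true := by decide +kernel

/-- A word from its code. -/
def decW : ℕ → ℕ → List ℕ
  | 0, _ => []
  | f + 1, c => if c ≤ 1 then [] else (c % 4) :: decW f (c / 4)

/-- The levels of the order. -/
def LvC : List (ℕ × List ℕ) := [(0,[1, 24494538726, 349294716500, 1415287614, 116304899157, 7782820972, 73848870641, 18501450862, 108917576940, 1148186198, 8585303317, 30385353070, 299512214527, 1313132102, 21857330510, 97804615246, 85697583409, 118937589326, 30494410319, 341389653, 90535100177, 1538521881, 21803124420, 107798152539, 428959484, 360458274532, 136158729199, 124486930430, 95651558204, 85569829308, 75991350523, 85073877436, 90615141171, 33358767420, 93213135806, 92683915540, 95983854683, 134012519731, 93170462485, 22644201788, 23202453233, 116390260507, 74061943227, 8259923860, 22799969348, 30404858675, 136311498137, 30397103003, 85074050788, 18862914540, 134112557491, 7498481228, 20496716110, 1528533350, 1698252185, 82565207443, 4764616085, 6777192005,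 21206334356, 27633407059, 91374687153, 22544729686, 92693795633, 5977695951, 5288053966, 22934023251, 90089344620, 475758749435, 73980795196, 350496777300, 364092397846, 124284653908, 339597301324, 18629327295, 7487181926, 4751358779, 27177359801, 22969667862, 107759617647, 6158374639, 7454584422, 7767013700, 330556697, 24005049324, 1337048261, 30937137145, 5752833732, 110595294485, 27108835225, 20619093275, 137197328709, 351353621, 137196836159, 21943522278, 22520685823, 2087039301, 22889978198, 298858041086, 91381667071, 18999040974, 89192895436, 30529373947, 360560546709, 21809970383, 22443667796, 1455706052, 123573945445, 33392348915, 320226901, 297810596798, 84771423515, 30896377422, 89226408947, 82678060115, 21448563052, 6737887204, 1291832550, 1363494639, 84581271124, 1945370553, 4584728155, 8582688507, 108804420582, 4653127278, 4752086214, 130019118662, 119267945710, 29197843545, 97784710500, 1438377713, 74462478107, 95903809126, 2073319020, 7445872229, 84805479510, 29255065, 6798894683, 7779982259, 5307045198,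 20481818607, 24079479801, 124123168702, 33285554124, 27275128828, 6166886707, 21034428012, 22972518399, 23383121, 73439401203, 292500476, 89746927611, 4763751513, 1536531379, 98767182843, 122121116566, 5361716825, 82430343601, 120207070129, 95831194428, 91508428772, 27175940454, 116304700646, 21943353110, 1827617689, 5621705807, 90556183321, 33553585103, 22301064142, 74556140645, 120257791387, 22436354324, 82431989478, 8159215381, 24006947225, 21201764302, 6827044665, 8343933371, 110479300932, 91894790510, 5152292558, 82595055, 23978624249, 293936385617, 34091275673, 29063714532, 1323722171, 97784718611, 30485878524, 89979610454, 110595349477, 1498498814, 130174098235, 89918817625, 85615953134, 18336661070, 22756484292, 121666623057, 92762878358, 133089793307, 21815514436, 98701737967, 27268976981, 333790972, 299520418892, 96355292081, 85654267118, 5726688207, 1701604953, 5473899924, 74378529860, 366434567515, 119273219781, 7400048219, 2073401619, 20618989561, 87265581502, 90626125718, 5475991494, 22530037359, 22924345267,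 1280230747, 1279610446, 366133056953, 5364849606, 23979185509, 85479862549, 5636709139, 18508616684, 19058070511, 476420430, 18341625755, 1458562414, 22440778005, 7454536699, 18716236569, 91064996179, 4635833324, 110389651055, 82595368689, 18895797041, 74084281422, 22906130009, 302506131263, 98676688196, 27083559254, 8138417252, 6865622212, 29848473958, 27645494508, 5288180734, 341800928837, 136633381265, 6737512166, 32571806821, 29735844251, 81936093617, 18605690673, 1342067955, 6827915621, 20518331724, 119452813055, 31025609980, 29982543855, 91692486233, 84128065103, 85690891071, 7511054054, 119183600723, 34039917806, 20507250671, 84608632212, 4669512083, 75537763941, 7488142956, 26960982929, 85615440238, 91239829937, 34062974545, 30489858030, 18863210053, 89862548, 117017263097, 8474316529, 27586293444, 24451040462, 27496747443, 19058678073, 24092065521, 21461842238, 33400291301, 7603336083, 22879825606, 1415300806, 1427708308, 33376595771, 1431553262, 24445694779, 21144888655, 289721550, 330442888815, 5617009940, 1341371375,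 107411780, 82615649510, 33282748403, 5307176275, 1716278222, 26960147348, 30036695379, 298854050900, 87060880188, 6737382993, 31064790725, 5831244606, 22879861747, 85629140943, 5163523068, 95670945092, 27226173247, 33040944718, 120197304127, 6166877617, 30012753236, 119302672155, 18493682662, 8562994790, 4583419462, 74177926073, 296083886905, 4585798630, 109065518847, 33382226713, 21224645740, 121697619174, 95858457670, 27452977982, 33916272229, 330265021540, 8160961852, 475885487332, 295529855381, 89327136324, 373214625742, 87181556972, 6911111492, 4720014278, 299572808783, 34252181497, 91732660501, 32666373947, 343391026767, 30533467204, 92058244431, 8317062741, 109250006617, 8479806396, 23173880124, 98764214676, 29613118700, 2035737689, 5994075059, 31138278629, 76033386181, 7756408150, 87058792435, 7496058303, 82604020814, 8388318001, 74304537957, 8160374724, 486338556, 22972550255, 7448806639, 89924105109, 87751982316, 8563086933, 330437345231, 74831553644, 1704673172, 435643063089, 6793804799, 286683134, 84208081297,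 31024303705, 27166265284, 5348156492, 5697682542, 121684344420, 2066813755, 350465967308, 21367160411, 304137293567, 5986123540, 30047032307, 1499184723, 30891034222, 5995445966, 92697347790, 21803494468, 1161401423, 118446089468, 2132034878, 371226078284, 293370949531, 73370016025, 95824528661, 1158931697, 2040239428, 22868717555, 5361659589, 75504053862, 82565223653, 1328801092, 21227355236, 74419510267, 1342117209, 84579135835, 5585757585, 1147515902, 26924047153, 5624124350, 20668454607, 29683507, 97794180377, 22494990612, 84103895828, 108803988403, 27274711404, 29848071422, 107758958, 20488360859, 5307186966, 132310781028, 89329178193, 384773279718, 18722213860, 27200410981, 30527396118, 20490571540, 1716499251, 27494475333, 137323163980, 1448369045, 130577004902, 27202444283, 22488728894, 31125862740, 110580459236, 1817132863, 7632524372, 74440186651, 20666143854, 120019898646, 22528065299, 27628301398, 89369066726, 5720920015, 90133844275, 130576633745, 22902714771, 5298345361, 29244049145, 23986783461, 109862708422,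 18493063161, 83782756, 81959949652, 2140751097, 298054337982, 1875312636, 108200351313, 1179752724, 6905128014, 27107550460, 349217701462, 90576278420, 5632899417, 4635514623, 365942822163, 24583761852, 349608948716, 385437413, 133435774062, 544640439281, 1818576209, 362478326757, 134009404367, 5254519614, 1908141659, 24481841086, 20473380070, 93302625179, 116927556815, 1175740215060, 5294625787, 21939436, 87617960339, 34075784115, 95816143180, 5703801748, 118540801606, 120232866815, 133128862140, 298954550357, 509955839, 21413346395, 34087107377, 95514198, 75546999109, 328658841, 91207564881, 91893338457, 1534271245910, 91026620156, 132336955673, 89226450148, 23963106533, 1726986606, 27465684686, 87315369700, 87058269459, 136156871790, 5618561009, 8141499598, 21363014745, 24490298958, 82610558206, 18027620, 85885956443, 27470934932, 108709756819, 8538451052, 18879856590, 348719597263, 121622128334, 5659138875, 435241172044, 84178388305, 109225677619, 132338441151, 74087749012, 29096723541, 85696730364, 108530872667, 6762360399,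 27312145651, 74194825619, 84810229329, 364261751750, 8589731407, 2093301356, 98360966085, 6122525588, 27111718597, 5323569, 73445500613, 521484635, 89954270831, 87595226052, 136158756549, 8169454660, 533032945, 132187684601, 84919273166, 90551281230, 23954127678, 74550693817, 108337059217, 6911923644, 108714636262, 329721689081, 350392042901, 5719745617, 1161376708, 85067061691, 87313808997, 32586578260, 24679257854, 85067124721, 1819082329, 33552690404, 21152201070, 98670549334, 366364049172, 1543214353, 5261466005, 124474359569, 430833734981, 2132102383, 5449239782, 91239830502, 436898869572, 304828978265, 30003237198, 4648789583, 18996343228, 23962867046, 289091942, 327744573339, 8482668347, 30397166572, 82073705471, 74831949391, 137142097647, 108373730646, 73881686843, 358988070863, 1706116501, 92066125075, 97974743865, 8582678127, 24087049188, 29959810628, 18588316569, 1816499099, 22800025189, 2095891540, 336334155724, 21803242494, 21767369523, 89897813358, 108239607195, 359453356310, 7268492531, 27195814203, 4669394687,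 23004787695, 466013423, 296102337487, 6122575052, 124491480805, 74354897814, 5720965062, 1500267967, 18359628115, 339289422164, 75536188492, 107722595121, 29621470822, 4651810611, 27174651214, 29108028502, 5726476028, 5632709396, 7611693969, 1159455983, 32570446932, 21206295894, 24449535892, 31076929339, 89921273422, 18459455804, 21928958963, 74379249254, 124225613721, 5474024447, 18870977791, 8270845275, 1402725734, 95947652047, 20662801605, 120176508667, 74081448721, 4635734939, 85580528027, 8582698063, 73484189491, 74175288219, 30357084564, 7723082838, 73976338174, 5727672767, 5728134419, 18610538238, 296272620740, 439945728435, 33258000079, 29795280492, 87063591731, 1724202748, 1156378900, 19057841391, 357494947556, 296835867, 484791103, 90619248537, 76168540478, 23912102884, 375067900, 33272599636, 8473826302, 339063139926, 293740988134, 33270682574, 21224678809, 22665728356, 116315471084, 109988040645, 27111044025, 295531789310, 130305422270, 5617201599, 373705983, 22533134079, 21413326587, 2147214447, 21810267887,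 8270205934, 22435218687, 85436898299, 364964974959, 116346131219, 29243970837, 27598253142, 1701123670, 32503064315, 91533135102, 136453082865, 84805437007, 85043396372, 24007757822, 425006662, 1726944868, 34078707443, 5122051667, 98670560597, 18676798460, 1282347417, 8582948116, 5462791780, 8144274737, 6793020723, 96308361583, 26934043995, 7764507417, 1727087707, 435492800076, 293876989164, 33401798399, 7596240889, 31069726318, 84583665220, 1416619263, 18343466260, 113586513, 26934038511, 30012657407, 8342181628, 339664490389, 18879852902, 32598019860, 8350590363, 5691558996, 120258281049, 108805692337, 75546734916, 4764517484, 1901482777, 130217766598, 351031524153, 1875668204, 137425566037, 84218412111, 31124952774, 343269098724, 73858299, 467832651699, 8574466361, 365363029297, 118581357796, 21456374990, 73334592836, 95905202067, 437011768399, 7408479487, 108533488446, 96195399995, 5996565395, 2143642897, 93170512277, 1828262860, 22642112876, 359791940942, 33080044740, 1693543494, 30004976049, 29611332947, 18360886715,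 33526464460, 84086446398, 1189651737678, 89206113521, 24689503812, 339196597454, 18460507025, 1173398046038, 2036045119, 81944460883, 367645112598, 98722663535, 1324432371, 76207803500, 5872623, 22301441107, 1163152588, 26937078195, 116924411877, 74061967804, 75459269883, 116964012997, 121663737622, 8271163750, 6817140479, 391707384140, 5166136913, 6114241777, 32564140955, 130211714451, 74470677305, 1158934500, 30407058758, 457113499, 34037125908, 21363407980, 299372205669, 293506186222, 5355849297, 33069283633, 7512835654, 302011674606, 485487548, 4677685189, 21228704662, 20534869, 18884443086, 87306900478, 73390184773, 87777456462, 135716398191, 18495830350, 331705598, 331110740, 82671156847, 7497645979, 107725347774, 295911551998, 5792306494, 5289010265, 30413945198, 5441142577, 327597888708, 18716399033, 135653988697, 1187927782, 441515918771, 5610328063, 85659482558, 18607576172, 109976026084, 74444379547, 18863179513, 5999688497, 124231410929, 4669654734, 122121032805, 1397691840846, 87437816217, 23002926331, 24691448772,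 74893439311, 84915059023, 18879595964, 27138298188, 30534419734, 303984737894, 90178828721, 30892556286, 5690725612, 24051422820, 2042385299, 18461648462, 336503968081, 32570233849, 5657882611, 5482279929, 6145916524, 33895202390, 301974491478, 18609716454, 133075129678, 121600206447, 29617402182, 8125497073, 6911137094, 339100892415, 5258595569, 21906414575, 18369953557, 98332638918, 1311817839036, 5151734579, 22544368883, 82464103187, 30396485977, 1364087697, 76208817596, 22973673241, 91185945366, 366501499889, 5459174997, 1422218555, 89338434361, 5754148044, 31078070718, 22301397996, 90080628454, 364790912613, 118496511317, 85624165785, 109952833275, 5473881708, 1341220068, 108715514684, 116318082289, 120148958195, 89898965999, 297847206332, 292355988, 95903782143, 23159140350, 108446153702, 22434899286, 74508876751, 109075424597, 108555876678, 21400728549, 1530488561, 356929529, 5823201230, 331269567, 73841657548, 360697560140, 24634530799, 353823820, 98567450617, 528645875046, 1897607484, 18584006585, 87213535571,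 6731746389, 297522500846, 1718506604, 121717593521, 92011744340, 89209622502, 30418746981, 365053672390, 87337561669, 75985826131, 89774444484, 91519280463, 34254874351, 29735239372, 7623489843, 2095906390, 74248539, 2147455771, 132702639036, 29097349913, 135623757811, 5126737905, 32680966555, 330269669723, 75619078481, 91373851545, 34297674515, 97952054254, 1175530596083, 133600755406, 80045164, 1413820817, 29258402886, 5689134662, 133598303974, 7268618649, 130540370943, 1163218715, 116320394041, 292313371, 7455721060, 84172673998, 535870991589, 95915336956, 18998521622, 22436988260, 22639743950, 29780694265, 530885620709, 23165481982, 22531013403, 27171959193, 33285886318, 7433958297, 75584764182, 1931153765, 133975758, 87266645, 2031697151, 119989547921, 76231888881, 29084696148, 74732991292, 5252559254, 95659282201, 33369613588, 2067514597, 137168703379, 1701248947, 473902808015, 89384745747, 4585881364, 132323562853, 2073284559, 1716410681, 74072781631, 18863441135, 5824921164, 336163434843, 336725955006, 8318112155,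 74005691471, 1161741908, 4626075589, 4651282198, 32532683759, 32576322329, 23170639180, 435251001790, 82428247638, 519133529, 89854309, 18548347283, 91051606009, 85787874918, 27471615343, 24482044209, 29994274405, 6111520081, 27172126521, 362204573973, 7779620198, 116790072307, 18344138351, 5458596185, 29782938425, 383656972283, 109092040699, 18471645524, 20490306878, 108231126223, 33392663494, 32544646451, 338490145733, 22879498236, 530858065497, 6010758417, 27645034389, 18587373284, 5691428549, 429653062, 120017458284, 81899404900, 109907489785, 5341003759, 74074636286, 296727543545, 130833393, 109895414718, 519890364, 82677011771, 7511759852, 8141041238, 8515565873, 22481203643, 130287342012, 5452353302, 335491990, 21898171387, 116433675513, 298852544959, 108788513681, 75452695889, 29858305733, 105839701, 130244776943, 1497154878, 18896310165, 120255304646, 22531532118, 32636686681, 23170993230, 465148300494, 93363922262, 96173643003, 116793329382, 7604558820, 297776027, 119809490523, 32500706383, 34248903916, 74338198963,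 120179284934, 84176469733, 116789957951, 85090172670, 24582750206, 82663177829, 5163603173, 433790412004, 21937344411, 22474540780, 8571405627, 5744521188, 6863295590, 133611935340, 74712892723, 73846575449, 135665811014, 27309950395, 384130704613, 1874067035, 92069512902, 76030475355, 364625107902, 322721041, 74446521788, 85652819867, 7733351503, 134106863003, 1874743572, 4657009747, 1447872239, 34299900860, 107806090447, 22480317668, 4628868293, 1341724243, 121446406577, 116922246225, 110390341433, 119291231828, 74442139, 21803453689, 1431721365, 433360835950, 29645050963, 21400720357, 22877157718, 18540160591, 116926026747, 5167173316, 24692233327, 1539597550, 119811315092, 85789218158, 24454443825, 33919331577, 22474213060, 91626248982, 108553588628, 33553142734, 1169969100, 5833490174, 91922285913, 297520090196, 73849007699, 330292739654, 24049075909, 22487347540, 8345416113, 136626394517, 119964416318, 26932989950, 6019241556, 105697022, 24489597269, 5586491759, 2130461900, 320018156, 30011265371, 23352941489, 21045211076,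 98755261332, 75593147673, 27206089497, 296056363924, 2034650831, 7784176635, 75989336015, 293597370675, 30059633465, 5456356601, 1161555889, 1505514837, 1698587988, 109091112531, 27635999973, 84046836117, 8381883468, 95812956476, 21832298060, 21201269683, 5722362673, 89952547093, 85031933182, 339652981694, 1192680124177, 536003719500, 33270993305, 29617764763, 34040921039, 5575613413, 5475948108, 22544696597, 76033528217, 342791115580, 18615626982, 26960959045, 7314428, 130013983045, 22980379884, 89955212229, 293762448364, 8142977380, 136975897708, 19007428165, 298791025750, 328236199884, 1433388366, 7599111763, 108688675141, 85871358870, 87063717189, 30534516302, 2039681365, 118443294527, 1435782341, 110347939737, 95858287822, 22548263743, 20607028309, 365009760661, 4759733870, 85824982961, 7313895780, 74178821204, 296021742579, 23914675093, 1338358732, 29815108, 119804809167, 22306706629, 74294729148, 5314503877, 18437374, 91061688636, 8383993105, 21177365305, 296710631827, 85892462939, 1530652261, 29789099001, 6806920175,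 520043076377, 530168083, 91554601919, 92013481747, 82433103460, 34109541614, 520090620, 6793664868, 82036314006, 330291804947, 423606613, 341874495052, 109091050428, 21026397078, 5163171436, 85479462292, 21413217996, 76033380091, 135581217108, 27300697157, 23995966788, 23353463731, 366233099187, 32681754566, 21805732849, 1457934129, 383414224207, 132158084441, 330596533839, 296024335804, 98716698353, 81989844174, 76130731084, 82435985686, 4719928934, 439413478334, 1326821743, 29256205564, 8572747669, 21448621147, 90623908158, 23170749209, 22621191985, 5719284121, 135665745649, 1158933580, 8142538163, 18874102195, 8314617062, 33928856853, 4668718683, 1684858092, 29231042907, 29997649860, 18349765523, 26497471, 73372352401, 431048115, 529108291524, 7603961790, 27132839631, 30429236965, 84899344667, 351869951, 24585946447, 296272116827, 29819089918, 1163284377, 299458348357, 24450242875, 18682804566, 24045138361, 385392654614, 32571217657, 91252437811, 27136037964, 74429077820, 118578215217, 105273039, 508322900, 118971417926,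 7268531436, 21051626431, 74176206412, 98329497956, 90127191958, 5361580997, 1170157844, 26934704574, 1945192021, 7509465919, 330264044750, 28940729, 95668256709, 330940357, 130354572527, 8585329732, 29825588031, 116346606870, 23942774373, 304670500115, 29600182596, 5574577228, 90522867397, 87241413718, 8586772479, 18682937316, 30420318572, 136448808678, 1393970940, 108804197476, 89762634523, 2096713660, 1436285845, 421205438, 74866681445, 110528282427, 93207222596, 8133169492, 5793665945, 74194180881, 23002978636, 29819848388, 21832396593, 24677475910, 74866541881, 8477143397, 293935009529, 5126723300, 5978025041, 18369996495, 6733232571, 82473014683, 90190462719, 32669421541, 74296824804, 26934066373, 8308495429, 82072911, 87774199366, 116963644763, 22654469861, 518340607, 32588495155, 336409656091, 18467811071, 30047973779, 107369583, 29848048636, 336438999318, 7631850726, 1394016059, 97806968127, 82567257062, 394269118809, 84899855951, 21826867519, 21260686612, 7455829220, 4720253948, 21944308838, 89226450533, 296239429974,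 32596884709, 73471357244, 29796132245, 20665710867, 108742897428, 22345610239, 23165986225, 18678083387, 23963352654, 327742674124, 22913052670, 8133559492, 7780328881, 18585276401, 29080785297, 108790697907, 1431649478, 5727611987, 18548551441, 121963103317, 19043292229, 90086660915, 27135854190, 27598242918, 74205625243, 293505167302, 349073403699, 340171092283, 22636220741, 1502822385, 27138614597, 89209942937, 20668421477, 29076722937, 18543358905, 5441414758, 85137740, 349038694139, 8574309654, 109201846033, 84771453285, 1281096790, 435217524047, 85895484750, 4627364806, 124259161020, 1362301756, 75451094636, 293472517222, 124233521457, 363938901, 23986980113, 87717286329, 87615956565, 1341212052, 33374891092, 350375115749, 33375056238, 366145018289, 297644479484, 6802062318, 24053880134, 20483822661, 18629349819, 7408799333, 477168026943, 89763243604, 89763660876, 73342910021, 7780776377, 1396636433, 74306053403, 8342361535, 33277156, 98783271359, 30399524755, 30357089366, 89360629563, 21026465022, 532475502, 298954542702,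 21899497395, 27268531518, 89102021, 6731854742, 18586002796, 336691141438, 74422916332, 123747900388, 385411245420, 87397053211, 110594331540, 333860068, 435333912917, 27633578993, 7630384206, 1541828172, 30423707630, 4656813030, 301928659349, 8314262609, 18895794075, 330263640505, 91910945553, 74296250261, 33912604015, 21454679268, 22655210725, 92059834734, 2144229652, 130379103993, 297312796358, 18545531793, 82469897531, 108804895729, 24615405253, 23191338238, 21230503167, 22756563761, 30051400652, 21826892116, 90550808854, 21447251660, 21020693753, 1322829399631, 109978776342, 293371733587, 1933299684, 7489929017, 34333496315, 97795528271, 18347299221, 91534676374, 18997051157, 342413480767, 1337189723, 137359023027, 136253370262, 2041811310, 4584132324, 23905617, 497770492729, 21257864772, 130379126351, 118943888357, 23996450383, 74512841039, 73980503318, 1543180625, 4635726164, 1314221659, 74327673957, 82025178222, 7495588629, 30489809870, 329900161471, 22486040563, 21011777222, 123596935577, 87067006671, 516944177,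 114050809, 22922328382, 296290982911, 1404255316, 27229144145, 82473043284, 85652881380, 1899085566, 92811106639, 18595774414, 20668568517, 121955243409, 457065700, 19006899798, 1208249285574, 74714965318, 136579447067, 5476661561, 81927098702, 290213887, 5664128915, 293338420220, 93167863225, 425399662, 108699130261, 359587724870, 84100400883, 7723488145, 23956903116, 342772149339, 336883115599, 29780940517, 5838207419, 7588872113, 87761342020, 29231487983, 5752945636, 18862629964, 30899124500, 76222108876, 24006520422, 7339119, 84797265615, 34297813337, 108386172158, 18546058820, 27297891940, 32586568044, 29856316500, 341807721670, 22530839551, 342817870, 301939281132, 5557988, 330266128827, 124257670449, 95916734799, 91689292180, 1930511807, 1395866041, 26928800966, 22346448068, 27133296588, 296299021561, 359954207636, 30439462628, 85435060625, 74086372302, 5995034963, 74710340883, 520078534, 95677236827, 5476515823, 85626665326, 6154026068, 5792749305, 394708119345, 21045765717, 7757715183, 121694670831, 85789000932,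 23917050182, 531743832345, 29197357398, 33897077524, 5789541692, 91260795897, 74890102348, 23201077689, 7766873364, 20971286, 7498971413, 108742785301, 27468954523, 1179931571, 1706120943, 19057195289, 97977980228, 26932473444, 516930668, 30357214805, 5619519, 1432680723, 5564, 116957724438, 27201029425, 74512185619, 74380687697, 117009496465, 5621764036, 18341369454, 84906284795, 87844164, 1191074198, 74517823468, 89873763438, 1825504239, 76184088915, 296239873125, 85065092293, 74708679759, 482635569, 109251985305, 18494023013, 96032779348, 82671199825, 33526577516, 119274454972, 6022912959, 74732433169, 4764714060, 29619121401, 1828285524, 34339050444, 5710865766, 89361306033, 7588537941, 1148077412, 18638431998, 1494479129, 18877760879, 5659622655, 92694009276, 5977881011, 21898198214, 98337900236, 296083996564, 1326657892, 74343592271, 73370156851, 22972546124, 1154368868, 23964570943, 23157774700, 21895926884, 359084168468, 87598453071, 118462873393]),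
  (2,[20507313478, 1, 342506863727, 76155655366, 91251252115, 30521148748, 7513019475, 362193776627, 18874078821, 29847976340]),
  (8,[93212480404, 19046274284, 6160464185, 26960550222, 90535019749, 1, 22496437334, 73972149452]),
  (85,[130727855441, 348912504047, 5697367238, 1422720964, 18611630073, 98733479524, 1, 32535111057]),
  (23,[331269553, 7724843004, 508531014, 6800298905, 1, 73982382527, 8142480485, 293483418574]),
  (207,[1, 24613670844])]

/-- The levels of the order. -/
def Lv : List (ℕ × List (List ℕ)) := LvC.map fun l => (l.1, l.2.map (decW 64))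

theorem c_levels : levelsOK V 1755 4 Lv = true := by decide +kernel

theorem c_Lv : (Lv.map fun l => l.2.length).prod = 17971200 := by decide +kernel

/-- The generators in the table of the letters. -/
def gqL : List (List ℕ) := [[3, 2, 3, 0, 1, 1, 1, 2, 1, 0, 1, 2, 3, 2, 1, 1, 0], [3, 2, 3, 2, 1, 1, 2, 1, 2, 3, 0, 3, 2, 3, 3, 3, 2, 1, 0], [], [1, 0, 1, 2, 3, 2, 3, 0, 1, 2, 1, 0, 3, 2, 1, 2], [1, 0, 1, 2, 3, 2, 3, 0, 1, 2, 1, 0, 3, 2, 1, 2], [2, 1, 1, 1, 2, 3, 3, 3, 0, 3, 3, 2, 1, 1, 2, 1, 2], [3, 0, 3, 0, 3, 2, 1, 0, 3, 2, 3, 3, 0, 3, 2, 1, 2, 1, 0], [0, 3, 2, 1, 1, 2, 3, 0, 3, 0, 3, 3, 3, 0, 1, 1, 1, 1, 0]]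

/-- The generators in the table of the letters. -/
def gq (k : ℕ) : List ℕ := gqL.getD k []

/-- The generators lying in the group. -/
def gflag (k : ℕ) : Bool := [true, true, false, true, false, false, true, false].getD k false

/-- The conjugates of the letters. -/
def cwL : List (List ℕ) := [[2, 1, 2, 1, 1, 1, 2, 1, 0, 3, 2, 1, 2, 3, 3, 3, 3], [1, 0, 3, 3, 3, 3, 3, 0, 1, 0, 3, 0, 3, 2, 1, 1, 2], [1, 1, 1, 1, 0, 3, 0, 1, 2, 3, 0, 3, 3, 3, 0, 3, 0], [0, 3, 3, 0, 1, 2, 1, 2, 3, 2, 1, 1, 1, 1, 1, 2, 3]]

/-- The conjugates of the letters. -/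
def cw (a : ℕ) : List ℕ := cwL.getD a []

/-- The inverse of a letter. -/
def ai (a : ℕ) : ℕ := if a < 2 then a + 2 else a - 2

/-- The letter of the element outside. -/
def sl : ℕ := 6

/-- The inverse of the element outside. -/
def siw : List ℕ := [6, 6, 6]

/-- The square of the element outside. -/
def s2w : List ℕ := [1, 0, 1, 2, 3, 2, 3, 0, 1, 2, 1, 0, 3, 2, 1, 2]

theorem c_ai : ∀ a < 4, chk [a, ai a] = true ∧ ai a < 4 := by decide +kernel

theorem c_sinv : chk (sl :: siw) = true := by decide +kernel

theorem c_s2 : chk (sl :: sl :: s2w) = true := by decide +kernel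

theorem c_cw : ∀ a < 4, chk (sl :: (cw a ++ (siw ++ [ai a]))) = true := by decide +kernel

theorem c_gq : ∀ k < 8, (gflag k = true ∧ chk ((k + 4) :: gq k) = true) ∨
    (gflag k = false ∧ chk (siw ++ ((k + 4) :: gq k)) = true) := by decide +kernel

theorem c_gw : ∀ a < 2, chk (gw a ++ [a + 2]) = true := by decide +kernel

theorem c_wl : (∀ a < 4, ∀ b ∈ cw a, b < 4) ∧ (∀ k < 8, ∀ b ∈ gq k, b < 4) ∧ (∀ b ∈ s2w, b < 4) ∧ (∀ b ∈ siw, b < 12) := by decide +kernel

namespace Rp

section main

open Cfsg.Agent.Lib.Chev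

variable (R : Rep (ZMod 2) 2 add2 mul2)

/-- The generators. -/
noncomputable def g0 (k : ℕ) : ↥(chevF4.group (ZMod 2)) := wval (xI TabF4.good2 R.φ RL) (LW k)

/-- The letters. -/
noncomputable def gam (a : ℕ) : ↥(chevF4.group (ZMod 2)) := if a < 4 then wval (g0 R) (tw a) else g0 R (a - 4)

theorem hic (z : ℤ) : R.φ (ic z) = (z : ZMod 2) := by
  refine icC_val (p := 2) (by norm_num) (by decide) ?_ z
  intro n hn
  interval_cases n
  · simpa using R.h0
  · simpa using R.h1

theorem hPu (i : ℕ) : toV R.φ (dd chevF4) (pt i) = unp R.φ 1 (dd chevF4) (ptc i) := by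
  rw [unp_eq_toV]
  rfl

theorem hRoot : ∀ a < 8, ∀ i < 1755, V (a + 4) i < 1755 ∧
    chHom chevF4 (ZMod 2) (g0 R a) *ᵥ toV R.φ (dd chevF4) (pt i) = toV R.φ (dd chevF4) (pt (V (a + 4) i)) := by
  intro a ha i hi
  have h2 := of_allI (hVall a ha) i (Nat.zero_le _) hi
  simp only [Bool.and_eq_true, Nat.blt_eq, Nat.beq_eq] at h2
  refine ⟨h2.1, ?_⟩
  have h1 := word_unp R TabF4.good2 (hic R) c_RL colsR (fun j hj => (c_colsR j hj).1) (fun j hj => (c_colsR j hj).2) c_xor (LW a) (c_LWl a ha) (ptc i)
  rw [hPu, hPu, ← h2.2]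
  exact h1

theorem hLet : ∀ a < 12, ∀ i < 1755, V a i < 1755 ∧
    chHom chevF4 (ZMod 2) (gam R a) *ᵥ toV R.φ (dd chevF4) (pt i) = toV R.φ (dd chevF4) (pt (V a i)) := by
  intro a ha i hi
  by_cases h : a < 4
  · have e : gam R a = wval (g0 R) (tw a) := if_pos h
    have h2 := of_allI (hVtw a h) i (Nat.zero_le _) hi
    have h3 : V a i = walk (fun b => V (b + 4)) (tw a) i := Nat.eq_of_beq_eq_true h2
    have h4 := word_pts (chHom chevF4 (ZMod 2)) (γ := g0 R) (V := fun b => V (b + 4))
      (P := fun i => toV R.φ (dd chevF4) (pt i)) (k := 8) (N := 1755) (hRoot R) (tw a) (c_twl a h) i hi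
    rw [e, h3]
    exact h4
  · obtain ⟨b, rfl⟩ : ∃ b, a = b + 4 := ⟨a - 4, by omega⟩
    have e : gam R (b + 4) = g0 R b := by
      simp [gam]
    rw [e]
    exact hRoot R b (by omega) i hi

theorem heq12 (w : List ℕ) (hw : ∀ a ∈ w, a < 12) (h : chk w = true) : wval (gam R) w = 1 := by
  apply chHom_inj (D := chevF4) (F := ZMod 2)
  rw [map_one]
  refine eq_one_of_base_pack R _ c_xor (fun k => ptc (bsL.getD k 0)) Cp c_Cp c_two ?_
  intro k hk
  have h3 := (word_pts (chHom chevF4 (ZMod 2)) (hLet R) w hw (bsL.getD k 0) (c_bsl k hk)).2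
  have hk' : k < bsL.length := hk
  have h1 : bsL.getD k 0 ∈ bsL := by
    rw [List.getD_eq_getElem _ _ hk']
    exact List.getElem_mem hk'
  rw [Nat.eq_of_beq_eq_true (List.all_eq_true.mp h _ h1)] at h3
  simp only [hPu] at h3
  exact h3

/-! ### The generators of the twisted group -/

theorem x0 {r : ℕ} (hr : r < chevF4.nroots) : chevF4.x (ZMod 2) r 0 = 1 := by
  have := congrArg Units.val (TabF4.good2.xg_zero (F := ZMod 2) hr)
  simpa using this

/-- The matrix of a generator. -/
noncomputable def wm (k : ℕ) : Matrix chevF4.Idx chevF4.Idx (ZMod 2) := (((g0 R k).1 : GL chevF4.Idx (ZMod 2)) : Matrix chevF4.Idx chevF4.Idx (ZMod 2))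

theorem mat_xI (j : ℕ) (hj : j < RL.length) : (((xI TabF4.good2 R.φ RL j).1 : GL chevF4.Idx (ZMod 2)) : Matrix chevF4.Idx chevF4.Idx (ZMod 2)) =
    chevF4.x (ZMod 2) (RL.getD j (0, 0)).1 1 := by
  have h1 := (c_RL j hj).1
  have h2 : (RL.getD j (0, 0)).2 = 1 := by
    revert j
    decide +kernel
  rw [xI, xE, dif_pos h1]
  show ((TabF4.good2.xg h1 (R.φ (RL.getD j (0, 0)).2) : GL chevF4.Idx (ZMod 2)) : Matrix chevF4.Idx chevF4.Idx (ZMod 2)) = _
  rw [h2, R.h1]
  rfl

theorem wm0 : wm R 0 = chevF4.x (ZMod 2) 33 1 * chevF4.x (ZMod 2) 24 1 := by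
  simp only [wm, g0, show LW 0 = [0, 1] from rfl, wval_cons, wval_nil, mul_one, Subgroup.coe_mul, Units.val_mul]
  rw [mat_xI R 0 (by decide +kernel), mat_xI R 1 (by decide +kernel)]
  rfl

theorem wm1 : wm R 1 = chevF4.x (ZMod 2) 14 1 * chevF4.x (ZMod 2) 23 1 := by
  simp only [wm, g0, show LW 1 = [2, 3] from rfl, wval_cons, wval_nil, mul_one, Subgroup.coe_mul, Units.val_mul]
  rw [mat_xI R 2 (by decide +kernel), mat_xI R 3 (by decide +kernel)]
  rfl

theorem wm2 : wm R 2 = chevF4.x (ZMod 2) 27 1 * (chevF4.x (ZMod 2) 25 1 * chevF4.x (ZMod 2) 28 1) := by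
  simp only [wm, g0, show LW 2 = [4, 5, 6] from rfl, wval_cons, wval_nil, mul_one, Subgroup.coe_mul, Units.val_mul]
  rw [mat_xI R 4 (by decide +kernel), mat_xI R 5 (by decide +kernel), mat_xI R 6 (by decide +kernel)]
  rfl

theorem wm3 : wm R 3 = chevF4.x (ZMod 2) 28 1 * chevF4.x (ZMod 2) 30 1 := by
  simp only [wm, g0, show LW 3 = [6, 7] from rfl, wval_cons, wval_nil, mul_one, Subgroup.coe_mul, Units.val_mul]
  rw [mat_xI R 6 (by decide +kernel), mat_xI R 7 (by decide +kernel)]
  rfl

theorem wm4 : wm R 4 = chevF4.x (ZMod 2) 27 1 * (chevF4.x (ZMod 2) 25 1 * chevF4.x (ZMod 2) 30 1) := by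
  simp only [wm, g0, show LW 4 = [4, 5, 7] from rfl, wval_cons, wval_nil, mul_one, Subgroup.coe_mul, Units.val_mul]
  rw [mat_xI R 4 (by decide +kernel), mat_xI R 5 (by decide +kernel), mat_xI R 7 (by decide +kernel)]
  rfl

theorem wm5 : wm R 5 = chevF4.x (ZMod 2) 20 1 * (chevF4.x (ZMod 2) 22 1 * chevF4.x (ZMod 2) 19 1) := by
  simp only [wm, g0, show LW 5 = [8, 9, 10] from rfl, wval_cons, wval_nil, mul_one, Subgroup.coe_mul, Units.val_mul]
  rw [mat_xI R 8 (by decide +kernel), mat_xI R 9 (by decide +kernel), mat_xI R 10 (by decide +kernel)]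
  rfl

theorem wm6 : wm R 6 = chevF4.x (ZMod 2) 19 1 * chevF4.x (ZMod 2) 17 1 := by
  simp only [wm, g0, show LW 6 = [10, 11] from rfl, wval_cons, wval_nil, mul_one, Subgroup.coe_mul, Units.val_mul]
  rw [mat_xI R 10 (by decide +kernel), mat_xI R 11 (by decide +kernel)]
  rfl

theorem wm7 : wm R 7 = chevF4.x (ZMod 2) 20 1 * (chevF4.x (ZMod 2) 22 1 * chevF4.x (ZMod 2) 17 1) := by
  simp only [wm, g0, show LW 7 = [8, 9, 11] from rfl, wval_cons, wval_nil, mul_one, Subgroup.coe_mul, Units.val_mul]
  rw [mat_xI R 8 (by decide +kernel), mat_xI R 9 (by decide +kernel), mat_xI R 11 (by decide +kernel)]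
  rfl

theorem wmat_pair (r s : ℕ) (t : ZMod 2) : chevF4.wordMat (ZMod 2) (f4PairWord 1 r s t) =
    chevF4.x (ZMod 2) r t * chevF4.x (ZMod 2) s t := by
  simp [ChevalleyDatum.wordMat, f4PairWord]

theorem wmat_b2 (a b ab aab : ℕ) (t u : ZMod 2) : chevF4.wordMat (ZMod 2) (b2ClassWord 1 a b ab aab t u) =
    chevF4.x (ZMod 2) a t * (chevF4.x (ZMod 2) b t * (chevF4.x (ZMod 2) ab (t ^ 2 + u) * chevF4.x (ZMod 2) aab (u ^ 2))) := by
  simp [ChevalleyDatum.wordMat, b2ClassWord]

theorem cases2 (t : ZMod 2) : t = 0 ∨ t = 1 := by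
  revert t
  decide

theorem hw_pair1 (t : ZMod 2) : f4PairWord 1 f4p1 f4p4 t ∈ f4Words (ZMod 2) 1 := Or.inl ⟨t, Or.inl rfl⟩
theorem hw_pair2 (t : ZMod 2) : f4PairWord 1 f4m1 f4m4 t ∈ f4Words (ZMod 2) 1 := Or.inl ⟨t, Or.inr rfl⟩
theorem hw_b1 (t u : ZMod 2) : b2ClassWord 1 f4a f4b f4ab f4aab t u ∈ f4Words (ZMod 2) 1 := Or.inr ⟨t, u, Or.inl rfl⟩
theorem hw_b2 (t u : ZMod 2) : b2ClassWord 1 f4ma f4mb f4mab f4maab t u ∈ f4Words (ZMod 2) 1 := Or.inr ⟨t, u, Or.inr rfl⟩

theorem r_lt {r : ℕ} (h : r < 48) : r < chevF4.nroots := h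

/-- The values of a word of type B₂. -/
theorem b2_cases (a b ab aab : ℕ) (ha : a < 48) (hb : b < 48) (hab : ab < 48) (haab : aab < 48) (t u : ZMod 2) :
    chevF4.wordMat (ZMod 2) (b2ClassWord 1 a b ab aab t u) = 1 ∨
    chevF4.wordMat (ZMod 2) (b2ClassWord 1 a b ab aab t u) = chevF4.x (ZMod 2) a 1 * (chevF4.x (ZMod 2) b 1 * chevF4.x (ZMod 2) ab 1) ∨
    chevF4.wordMat (ZMod 2) (b2ClassWord 1 a b ab aab t u) = chevF4.x (ZMod 2) ab 1 * chevF4.x (ZMod 2) aab 1 ∨
    chevF4.wordMat (ZMod 2) (b2ClassWord 1 a b ab aab t u) = chevF4.x (ZMod 2) a 1 * (chevF4.x (ZMod 2) b 1 * chevF4.x (ZMod 2) aab 1) := by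
  rw [wmat_b2]
  have h0 := x0 (r_lt ha)
  have h1 := x0 (r_lt hb)
  have h2 := x0 (r_lt hab)
  have h3 := x0 (r_lt haab)
  rcases cases2 t with rfl | rfl <;> rcases cases2 u with rfl | rfl
  · left
    rw [show (0 : ZMod 2) ^ 2 + 0 = 0 by decide, show (0 : ZMod 2) ^ 2 = 0 by decide, h0, h1, h2, h3]
    simp
  · right; right; left
    rw [show (0 : ZMod 2) ^ 2 + 1 = 1 by decide, show (1 : ZMod 2) ^ 2 = 1 by decide, h0, h1]
    simp
  · right; left
    rw [show (1 : ZMod 2) ^ 2 + 0 = 1 by decide, show (0 : ZMod 2) ^ 2 = 0 by decide, h3]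
    simp
  · right; right; right
    rw [show (1 : ZMod 2) ^ 2 + 1 = 0 by decide, show (1 : ZMod 2) ^ 2 = 1 by decide, h2]
    simp

/-- The generating words have the matrices of the generators, or are trivial. -/
theorem words_cases (w : List (ℕ × ZMod 2)) (hw : w ∈ f4Words (ZMod 2) 1) :
    chevF4.wordMat (ZMod 2) w = 1 ∨ ∃ k < 8, chevF4.wordMat (ZMod 2) w = wm R k := by
  rcases hw with ⟨t, rfl | rfl⟩ | ⟨t, u, rfl | rfl⟩
  · rw [wmat_pair]
    rcases cases2 t with rfl | rfl
    · left
      rw [x0 (r_lt (by decide)), x0 (r_lt (by decide)), one_mul]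
    · exact Or.inr ⟨0, by norm_num, (wm0 R).symm⟩
  · rw [wmat_pair]
    rcases cases2 t with rfl | rfl
    · left
      rw [x0 (r_lt (by decide)), x0 (r_lt (by decide)), one_mul]
    · exact Or.inr ⟨1, by norm_num, (wm1 R).symm⟩
  · rcases b2_cases f4a f4b f4ab f4aab (by decide) (by decide) (by decide) (by decide) t u with h | h | h | h
    · exact Or.inl h
    · exact Or.inr ⟨2, by norm_num, h.trans (wm2 R).symm⟩
    · exact Or.inr ⟨3, by norm_num, h.trans (wm3 R).symm⟩
    · exact Or.inr ⟨4, by norm_num, h.trans (wm4 R).symm⟩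
  · rcases b2_cases f4ma f4mb f4mab f4maab (by decide) (by decide) (by decide) (by decide) t u with h | h | h | h
    · exact Or.inl h
    · exact Or.inr ⟨5, by norm_num, h.trans (wm5 R).symm⟩
    · exact Or.inr ⟨6, by norm_num, h.trans (wm6 R).symm⟩
    · exact Or.inr ⟨7, by norm_num, h.trans (wm7 R).symm⟩

theorem wm_words : ∀ k < 8, ∃ w ∈ f4Words (ZMod 2) 1, wm R k = chevF4.wordMat (ZMod 2) w := by
  have h0 : ∀ (r : ℕ), r < 48 → chevF4.x (ZMod 2) r 0 = 1 := fun r hr => x0 (r_lt hr)
  intro k hk
  interval_cases k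
  · refine ⟨_, hw_pair1 1, ?_⟩
    rw [wm0, wmat_pair]
    rfl
  · refine ⟨_, hw_pair2 1, ?_⟩
    rw [wm1, wmat_pair]
    rfl
  · refine ⟨_, hw_b1 1 0, ?_⟩
    rw [wm2, wmat_b2, show (1 : ZMod 2) ^ 2 + 0 = 1 by decide, show (0 : ZMod 2) ^ 2 = 0 by decide, h0 _ (by decide), mul_one]
    rfl
  · refine ⟨_, hw_b1 0 1, ?_⟩
    rw [wm3, wmat_b2, show (0 : ZMod 2) ^ 2 + 1 = 1 by decide, show (1 : ZMod 2) ^ 2 = 1 by decide, h0 _ (by decide), h0 _ (by decide), one_mul, one_mul]
    rfl
  · refine ⟨_, hw_b1 1 1, ?_⟩
    rw [wm4, wmat_b2, show (1 : ZMod 2) ^ 2 + 1 = 0 by decide, show (1 : ZMod 2) ^ 2 = 1 by decide, h0 _ (by decide), one_mul]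
    rfl
  · refine ⟨_, hw_b2 1 0, ?_⟩
    rw [wm5, wmat_b2, show (1 : ZMod 2) ^ 2 + 0 = 1 by decide, show (0 : ZMod 2) ^ 2 = 0 by decide, h0 _ (by decide), mul_one]
    rfl
  · refine ⟨_, hw_b2 0 1, ?_⟩
    rw [wm6, wmat_b2, show (0 : ZMod 2) ^ 2 + 1 = 1 by decide, show (1 : ZMod 2) ^ 2 = 1 by decide, h0 _ (by decide), h0 _ (by decide), one_mul, one_mul]
    rfl
  · refine ⟨_, hw_b2 1 1, ?_⟩
    rw [wm7, wmat_b2, show (1 : ZMod 2) ^ 2 + 1 = 0 by decide, show (1 : ZMod 2) ^ 2 = 1 by decide, h0 _ (by decide), one_mul]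
    rfl

/-- The twisted group. -/
local notation "T2" => (Cfsg.Lie.twistedF4 (ZMod 2) 1)

theorem mem_g0 : ∀ k < 8, (g0 R k).1 ∈ T2 := by
  intro k hk
  obtain ⟨w, hw, e⟩ := wm_words R k hk
  exact Subgroup.subset_closure ⟨w, hw, e⟩

theorem mem_wval (l : List ℕ) (hl : ∀ b ∈ l, b < 8) : (wval (g0 R) l).1 ∈ T2 := by
  induction l with
  | nil => exact one_mem _
  | cons b l ih =>
    rw [wval_cons, Subgroup.coe_mul]
    exact mul_mem (mem_g0 R b (hl b (by simp))) (ih (fun c hc => hl c (by simp [hc])))

theorem mem_gam (a : ℕ) (ha : a < 12) : (gam R a).1 ∈ T2 := by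
  by_cases h : a < 4
  · have e : gam R a = wval (g0 R) (tw a) := if_pos h
    rw [e]
    exact mem_wval R _ (c_twl a h)
  · have e : gam R a = g0 R (a - 4) := if_neg h
    rw [e]
    exact mem_g0 R _ (by omega)

/-- The letters in the twisted group. -/
noncomputable def lT (a : ℕ) : ↥T2 := if h : a < 12 then ⟨(gam R a).1, mem_gam R a h⟩ else 1

theorem lT_val {a : ℕ} (h : a < 12) : (lT R a).1 = (gam R a).1 := by
  simp [lT, h]

theorem wval_lT (w : List ℕ) (hw : ∀ a ∈ w, a < 12) : (wval (lT R) w).1 = (wval (gam R) w).1 := by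
  induction w with
  | nil => rfl
  | cons a w ih =>
    rw [wval_cons, wval_cons, Subgroup.coe_mul, Subgroup.coe_mul, lT_val R (hw a (by simp)), ih (fun b hb => hw b (by simp [hb]))]

theorem heqT (w : List ℕ) (hw : ∀ a ∈ w, a < 12) (h : chk w = true) : wval (lT R) w = 1 := by
  apply Subtype.ext
  rw [wval_lT R w hw, heq12 R w hw h]
  rfl

theorem lT_inv (a : ℕ) (ha : a < 4) : lT R (ai a) = (lT R a)⁻¹ := by
  obtain ⟨h1, h2⟩ := c_ai a ha
  have h3 := heqT R [a, ai a] (by
    intro b hb
    simp only [List.mem_cons, List.not_mem_nil, or_false] at hb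
    omega) h1
  simp only [wval_cons, wval_nil, mul_one] at h3
  exact eq_inv_of_mul_eq_one_right h3

theorem lT_inv2 (a : ℕ) (ha : a < 2) : lT R (a + 2) = (lT R a)⁻¹ := by
  have := lT_inv R a (by omega)
  rwa [show ai a = a + 2 by simp [ai, ha]] at this

theorem hcommT (a : ℕ) (ha : a < 2) : lT R a ∈ commutator ↥T2 := by
  have h1 := heqT R (gw a ++ [a + 2]) (by
    intro b hb
    rw [List.mem_append] at hb
    rcases hb with hb | hb
    · have := hgw1 a ha b hb
      omega
    · simp only [List.mem_cons, List.not_mem_nil, or_false] at hb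
      omega) (c_gw a ha)
  rw [wval_append, wval_cons, wval_nil, mul_one, lT_inv2 R a ha] at h1
  have h2 : wval (lT R) (gw a) = lT R a := mul_inv_eq_one.mp h1
  rw [← h2, ← Abelianization.ker_of, MonoidHom.mem_ker, map_wval]
  apply wval_balanced 2 _ _ _ (hgw1 a ha) (hgw3 a ha)
  intro b hb
  rw [← map_inv, lT_inv2 R b hb]

theorem hcommT4 (a : ℕ) (ha : a < 4) : lT R a ∈ commutator ↥T2 := by
  by_cases h : a < 2
  · exact hcommT R a h
  · obtain ⟨b, rfl⟩ : ∃ b, a = b + 2 := ⟨a - 2, by omega⟩
    rw [lT_inv2 R b (by omega)]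
    exact inv_mem (hcommT R b (by omega))

/-- The letters in the derived group. -/
noncomputable def lt (a : ℕ) : Cfsg.Lie.TitsGroup := if h : a < 4 then ⟨lT R a, hcommT4 R a h⟩ else 1

theorem lt_val {a : ℕ} (h : a < 4) : (lt R a).1 = lT R a := by
  simp [lt, h]

/-- The subgroup generated by the letters. -/
noncomputable def KK : Subgroup ↥T2 := Subgroup.closure (lT R '' {a | a < 4})

theorem mem_KK (w : List ℕ) (hw : ∀ a ∈ w, a < 4) : wval (lT R) w ∈ KK R := by
  induction w with
  | nil => exact one_mem _
  | cons a w ih =>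
    rw [wval_cons]
    exact mul_mem (Subgroup.subset_closure ⟨a, hw a (by simp), rfl⟩) (ih (fun b hb => hw b (by simp [hb])))

theorem hclosureT : Subgroup.closure ((fun k => lT R (k + 4)) '' {k | k < 8}) = (⊤ : Subgroup ↥T2) := by
  set C := Subgroup.closure ((fun k => lT R (k + 4)) '' {k | k < 8}) with hC
  have hM : T2 ≤ C.map (Cfsg.Lie.twistedF4 (ZMod 2) 1).subtype := by
    show Subgroup.closure _ ≤ _
    rw [Subgroup.closure_le]
    rintro g ⟨w, hw, e⟩
    rcases words_cases R w hw with h | ⟨k, hk, h⟩
    · have : g = 1 := Units.ext (by rw [e, h]; rfl)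
      rw [this]
      exact one_mem _
    · refine ⟨lT R (k + 4), Subgroup.subset_closure ⟨k, hk, rfl⟩, ?_⟩
      apply Units.ext
      rw [e, h]
      show (((lT R (k + 4)).1 : GL chevF4.Idx (ZMod 2)) : Matrix chevF4.Idx chevF4.Idx (ZMod 2)) = _
      rw [lT_val R (by omega : k + 4 < 12)]
      have : gam R (k + 4) = g0 R k := by simp [gam]
      rw [this]
      rfl
  rw [eq_top_iff]
  intro x _
  obtain ⟨y, hy, e⟩ := hM x.2
  have : y = x := Subtype.ext e
  rwa [← this]

/-- The element outside. -/
noncomputable def ss : ↥T2 := lT R sl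

theorem wval_siw : wval (lT R) siw = (ss R)⁻¹ := by
  have h := heqT R (sl :: siw) (by decide +kernel) c_sinv
  rw [wval_cons] at h
  exact eq_inv_of_mul_eq_one_right h

theorem hcommle : commutator ↥T2 ≤ KK R := by
  refine comm_le_of_index2 _ (hclosureT R) (KK R) (ss R) ?_ ?_ ?_
  · have h := heqT R (sl :: sl :: s2w) (by
      intro b hb
      simp only [List.mem_cons] at hb
      rcases hb with rfl | rfl | hb
      · decide
      · decide
      · have := c_wl.2.2.1 b hb
        omega) c_s2
    simp only [wval_cons] at h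
    have h2 : lT R sl * lT R sl = (wval (lT R) s2w)⁻¹ := by
      rw [← mul_assoc] at h
      exact eq_inv_of_mul_eq_one_left h
    show lT R sl * lT R sl ∈ _
    rw [h2]
    exact inv_mem (mem_KK R _ c_wl.2.2.1)
  · intro k hk
    have hle : KK R ≤ (KK R).comap (MulAut.conj (ss R)⁻¹).toMonoidHom := by
      show Subgroup.closure _ ≤ _
      rw [Subgroup.closure_le]
      rintro _ ⟨a, ha, rfl⟩
      have ha' : a < 4 := ha
      obtain ⟨h1, h2⟩ := c_ai a ha'
      have h3 := heqT R (sl :: (cw a ++ (siw ++ [ai a]))) (by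
        intro b hb
        simp only [List.mem_cons, List.mem_append, List.not_mem_nil, or_false] at hb
        rcases hb with rfl | hb | hb | rfl
        · decide
        · have := c_wl.1 a ha' b hb
          omega
        · exact c_wl.2.2.2 b hb
        · omega) (c_cw a ha')
      rw [wval_cons, wval_append, wval_append, wval_siw, wval_cons, wval_nil, mul_one, lT_inv R a ha'] at h3
      have h4 : (ss R)⁻¹ * lT R a * ss R = wval (lT R) (cw a) := by
        have h5 : ss R * (wval (lT R) (cw a) * ((ss R)⁻¹ * (lT R a)⁻¹)) = 1 := h3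
        have h6 : lT R a = ss R * wval (lT R) (cw a) * (ss R)⁻¹ := by
          have h8 : ss R * wval (lT R) (cw a) * (ss R)⁻¹ * (lT R a)⁻¹ = 1 := by
            simpa [mul_assoc] using h5
          exact (mul_inv_eq_one.mp h8).symm
        rw [h6]
        group
      have h7 := mem_KK R (cw a) (c_wl.1 a ha')
      rw [← h4] at h7
      simpa [MulAut.conj_apply] using h7
    have := hle hk
    simpa [MulAut.conj_apply] using this
  · rintro _ ⟨k, hk, rfl⟩
    have hk' : k < 8 := hk
    have hl : (∀ b ∈ gq k, b < 12) := fun b hb => by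
      have := c_wl.2.1 k hk' b hb
      omega
    rcases c_gq k hk' with ⟨_, h⟩ | ⟨_, h⟩
    · left
      have h3 := heqT R ((k + 4) :: gq k) (by
        intro b hb
        simp only [List.mem_cons] at hb
        rcases hb with rfl | hb
        · omega
        · exact hl b hb) h
      rw [wval_cons] at h3
      show lT R (k + 4) ∈ _
      rw [eq_inv_of_mul_eq_one_left h3]
      exact inv_mem (mem_KK R _ (c_wl.2.1 k hk'))
    · right
      have h3 := heqT R (siw ++ ((k + 4) :: gq k)) (by
        intro b hb
        simp only [List.mem_append, List.mem_cons] at hb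
        rcases hb with hb | rfl | hb
        · exact c_wl.2.2.2 b hb
        · omega
        · exact hl b hb) h
      rw [wval_append, wval_cons, wval_siw] at h3
      show (ss R)⁻¹ * lT R (k + 4) ∈ _
      rw [← mul_assoc] at h3
      rw [eq_inv_of_mul_eq_one_left h3]
      exact inv_mem (mem_KK R _ (c_wl.2.1 k hk'))

theorem hgi : ∀ a < 2, lt R (a + 2) = (lt R a)⁻¹ := by
  intro a ha
  apply Subtype.ext
  rw [lt_val R (by omega : a + 2 < 4), Subgroup.coe_inv, lt_val R (by omega : a < 4), lT_inv2 R a ha]

theorem hgenlt : Subgroup.closure (lt R '' {a | a < 2 * 2}) = ⊤ := by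
  rw [eq_top_iff]
  intro x _
  have hx : x.1 ∈ KK R := hcommle R x.2
  have e : KK R = (Subgroup.closure (lt R '' {a | a < 2 * 2})).map (commutator ↥T2).subtype := by
    rw [MonoidHom.map_closure, Set.image_image, KK]
    congr 1
    apply Set.ext
    intro z
    constructor
    · rintro ⟨a, ha, rfl⟩
      exact ⟨a, ha, lt_val R ha⟩
    · rintro ⟨a, ha, rfl⟩
      exact ⟨a, ha, (lt_val R ha).symm⟩
  rw [e] at hx
  obtain ⟨y, hy, e2⟩ := hx
  have : y = x := Subtype.ext e2
  rwa [← this]

theorem wval_lt (w : List ℕ) (hw : ∀ a ∈ w, a < 4) : (wval (lt R) w).1 = wval (lT R) w := by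
  induction w with
  | nil => rfl
  | cons a w ih =>
    rw [wval_cons, wval_cons, Subgroup.coe_mul, lt_val R (hw a (by simp)), ih (fun b hb => hw b (by simp [hb]))]

theorem heqlt (w : List ℕ) (hw : ∀ a ∈ w, a < 4) (h : chk w = true) : wval (lt R) w = 1 := by
  apply Subtype.ext
  rw [wval_lt R w hw, heqT R w (fun a ha => by have := hw a ha; omega) h]
  rfl

/-- The matrix of an element of the group. -/
noncomputable def iotaT : Cfsg.Lie.TitsGroup →* Matrix (Fin (dd chevF4)) (Fin (dd chevF4)) (ZMod 2) where
  toFun g := Matrix.reindex (eqv chevF4).symm (eqv chevF4).symm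
    (((g.1.1 : GL chevF4.Idx (ZMod 2))) : Matrix chevF4.Idx chevF4.Idx (ZMod 2))
  map_one' := by
    ext i j
    simp [Matrix.one_apply]
  map_mul' A B := by
    ext i j
    simp only [Matrix.reindex_apply, Matrix.submatrix_apply, Subgroup.coe_mul, Units.val_mul, Matrix.mul_apply]
    rw [← Equiv.sum_comp (eqv chevF4)]
    simp

theorem iotaT_lt (a : ℕ) (ha : a < 4) : iotaT (lt R a) = chHom chevF4 (ZMod 2) (gam R a) := by
  ext i j
  rw [chHom_apply]
  show ((((lt R a).1.1 : GL chevF4.Idx (ZMod 2))) : Matrix chevF4.Idx chevF4.Idx (ZMod 2)) _ _ = _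
  rw [lt_val R ha, lT_val R (by omega : a < 12)]
  rfl

theorem hP : ∀ i < 1755, ∀ j < 1755, toV R.φ (dd chevF4) (pt i) = toV R.φ (dd chevF4) (pt j) → i = j := by
  have hmono : ∀ i j, i < j → j < 1755 → ptc i < ptc j := by
    intro i j hij
    induction j, hij using Nat.le_induction with
    | base =>
      intro h
      have h2 := of_allI c_incr i (Nat.zero_le _) (by omega)
      exact Nat.le_of_ble_eq_true h2
    | succ j hj ih =>
      intro h
      have h2 := of_allI c_incr j (Nat.zero_le _) (by omega)
      exact lt_trans (ih (by omega)) (Nat.le_of_ble_eq_true h2)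
  have hchk : ∀ i < 1755, enc (pt i) = ptc i ∧ ∀ b ∈ pt i, b < 2 := by
    intro i hi
    have h2 := of_allI c_enc i (Nat.zero_le _) hi
    simp only [Bool.and_eq_true, List.all_eq_true] at h2
    exact ⟨Nat.eq_of_beq_eq_true h2.1, fun b hb => Nat.le_of_ble_eq_true (h2.2 b hb)⟩
  have hlen : ∀ i, (pt i).length = dd chevF4 := by
    intro i
    simp [pt, dgC]
    rfl
  intro i hi j hj e
  have h3 : pt i = pt j := by
    apply List.ext_getElem (by rw [hlen, hlen])
    intro k hk1 hk2
    have hk : k < dd chevF4 := by rwa [hlen] at hk1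
    have h4 := congrFun e ⟨k, hk⟩
    simp only [toV] at h4
    rw [List.getD_eq_getElem _ _ hk1, List.getD_eq_getElem _ _ hk2] at h4
    exact R.hinj _ _ ((hchk i hi).2 _ (List.getElem_mem hk1)) ((hchk j hj).2 _ (List.getElem_mem hk2)) h4
  have h5 : ptc i = ptc j := by
    rw [← (hchk i hi).1, ← (hchk j hj).1, h3]
  rcases lt_trichotomy i j with h | h | h
  · exact absurd h5 (hmono i j h hj).ne
  · exact h
  · exact absurd h5.symm (hmono j i h hi).ne

include R in
theorem hcard : Nat.card Cfsg.Lie.TitsGroup = 17971200 := by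
  apply le_antisymm
  · exact card_le (lt R) (hgi R) (hgenlt R) (heqlt R)
  · have h := card_ge_levels (iotaT) (lt R) V (fun i => toV R.φ (dd chevF4) (pt i)) 4 1755
      (by
        intro a ha i hi
        rw [iotaT_lt R a ha]
        exact hLet R a (by omega) i hi) (hP R) Lv c_levels
    rwa [c_Lv] at h

end main

end Rp

open Rp in
/-- The Tits group has trivial multiplier. -/
theorem result : Cfsg.HasCyclicSchurMultiplier Cfsg.Lie.TitsGroup 1 := by
  obtain ⟨R⟩ := exists_rep2 (F := ZMod 2) (ZMod.card 2)
  refine hasCyclicSchurMultiplier_one_of ?_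
  intro Γ _ _ σ hσ
  obtain ⟨f, h1, _⟩ := upper (lt R) (hgi R) (hgenlt R) (heqlt R) (hcard R) Γ σ hσ
  rw [eq_bot_iff]
  intro x hx
  have h2 := h1 ⟨x, hx⟩
  have h3 : (f '' {v | v ∈ gvs}) = ∅ := by simp [gvs]
  rw [h3, Subgroup.closure_empty, Subgroup.mem_bot] at h2
  rw [Subgroup.mem_bot]
  exact congrArg Subtype.val h2

end Cfsg.Agent.Lib.KnownSimple.TitsLab
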