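import Cfsg.Agent.Lib.KnownSimple.TitsLab.Inv
import Cfsg.Agent.Lib.KnownSimple.TwoTrans

/-!
# The Tits group has no doubly transitive action
-/

set_option autoImplicit false
set_option maxRecDepth 100000

namespace Cfsg.Agent.Lib.KnownSimple.TitsLab

open Cfsg.Agent.Lib.KnownSimple.Lab Cfsg.Agent.Lib.KnownSimple.LabMat Cfsg.Agent.Lib.KnownSimple.LabField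
open Cfsg.Agent.Lib.KnownSimple.LabVec Cfsg.Agent.Lib.KnownSimple.LabChev Cfsg.Agent.Lib.KnownSimple.LabPack Cfsg.Lie Subgroup
open Cfsg.Agent.Lib.KnownSimple.LabLevels Cfsg.Agent.Lib.KnownSimple Cfsg.Agent.Lib.KnownSimple.TwoTrans
open scoped Matrix Pointwise

/-- The generators of the group E. -/
def WgE (a : ℕ) : List ℕ := ([[0, 1], [1, 1, 2, 1, 0, 3, 2, 3, 3, 3, 0, 0, 1, 2, 1, 1, 1, 0, 1, 2, 3, 0, 3, 3]] : List (List ℕ)).getD a []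

/-- The elements of the group E. -/
def WLE (i : ℕ) : List ℕ := ([[], [0, 1], [1, 1, 2, 1, 0, 3, 2, 3, 3, 3, 0, 0, 1, 2, 1, 1, 1, 0, 1, 2, 3, 0, 3, 3], [0, 1, 0, 1], [1, 1, 2, 1, 0, 3, 2, 3, 3, 3, 0, 0, 1, 2, 1, 1, 1, 0, 1, 2, 3, 0, 3, 3, 0, 1], [1, 1, 2, 1, 0, 3, 2, 3, 3, 3, 0, 0, 1, 2, 1, 1, 1, 0, 1, 2, 3, 0, 3, 3, 1, 1, 2, 1, 0, 3, 2, 3, 3, 3, 0, 0, 1, 2, 1, 1, 1, 0, 1, 2, 3, 0, 3, 3], [3, 2, 3, 2], [1, 1, 2, 1, 0, 3, 2, 3, 3, 3, 0, 0, 1, 2, 1, 1, 1, 0, 1, 2, 3, 0, 3, 3, 0, 1, 0, 1], [1, 1, 2, 1, 0, 3, 2, 3, 3, 3, 0, 0, 1, 2, 1, 1, 1, 0, 1, 2, 3, 0, 3, 3, 1, 1, 2, 1, 0, 3, 2, 3, 3, 3, 0, 0, 1, 2, 1, 1, 1, 0, 1, 2, 3, 0, 3, 3, 0, 1], [1, 1, 2, 1, 0, 3, 2, 3, 3, 3, 0, 0, 1, 2, 1,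 1, 1, 0, 1, 2, 3, 0, 3, 3, 1, 1, 2, 1, 0, 3, 2, 3, 3, 3, 0, 0, 1, 2, 1, 1, 1, 0, 1, 2, 3, 0, 3, 3, 1, 1, 2, 1, 0, 3, 2, 3, 3, 3, 0, 0, 1, 2, 1, 1, 1, 0, 1, 2, 3, 0, 3, 3], [3, 2], [1, 1, 2, 1, 0, 3, 2, 3, 3, 3, 0, 0, 1, 2, 1, 1, 1, 0, 1, 2, 3, 0, 3, 3, 0, 1, 0, 1, 0, 1], [1, 1, 2, 1, 0, 3, 2, 3, 3, 3, 0, 0, 1, 2, 1, 1, 1, 0, 1, 2, 3, 0, 3, 3, 1, 1, 2, 1, 0, 3, 2, 3, 3, 3, 0, 0, 1, 2, 1, 1, 1, 0, 1, 2, 3, 0, 3, 3, 0, 1, 0, 1], [1, 1, 2, 1, 0, 3, 2, 3, 3, 3, 0, 0, 1, 2, 1, 1, 1, 0, 1, 2, 3, 0, 3, 3, 1, 1, 2, 1, 0, 3, 2, 3, 3, 3, 0, 0, 1, 2, 1, 1, 1, 0, 1, 2, 3, 0, 3, 3, 1, 1, 2, 1, 0, 3, 2, 3, 3, 3, 0, 0, 1, 2, 1, 1, 1, 0, 1, 2, 3, 0, 3, 3, 0, 1], [1, 1, 2, 1, 0, 3, 2, 3, 3, 3, 0, 0,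 1, 2, 1, 1, 1, 0, 1, 2, 3, 0, 3, 3, 1, 1, 2, 1, 0, 3, 2, 3, 3, 3, 0, 0, 1, 2, 1, 1, 1, 0, 1, 2, 3, 0, 3, 3, 1, 1, 2, 1, 0, 3, 2, 3, 3, 3, 0, 0, 1, 2, 1, 1, 1, 0, 1, 2, 3, 0, 3, 3, 1, 1, 2, 1, 0, 3, 2, 3, 3, 3, 0, 0, 1, 2, 1, 1, 1, 0, 1, 2, 3, 0, 3, 3], [1, 1, 2, 1, 0, 3, 2, 3, 3, 3, 0, 0, 1, 2, 1, 1, 1, 0, 1, 2, 3, 0, 3, 3, 0, 1, 0, 1, 0, 1, 0, 1], [1, 1, 2, 1, 0, 3, 2, 3, 3, 3, 0, 0, 1, 2, 1, 1, 1, 0, 1, 2, 3, 0, 3, 3, 1, 1, 2, 1, 0, 3, 2, 3, 3, 3, 0, 0, 1, 2, 1, 1, 1, 0, 1, 2, 3, 0, 3, 3, 0, 1, 0, 1, 0, 1], [1, 1, 2, 1, 0, 3, 2, 3, 3, 3, 0, 0, 1, 2, 1, 1, 1, 0, 1, 2, 3, 0, 3, 3, 1, 1, 2, 1, 0, 3, 2, 3, 3, 3, 0, 0, 1, 2, 1, 1, 1, 0, 1, 2, 3, 0, 3, 3, 1, 1, 2, 1, 0, 3, 2, 3, 3, 3, 0,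 0, 1, 2, 1, 1, 1, 0, 1, 2, 3, 0, 3, 3, 0, 1, 0, 1], [1, 1, 2, 1, 0, 3, 2, 3, 3, 3, 0, 0, 1, 2, 1, 1, 1, 0, 1, 2, 3, 0, 3, 3, 1, 1, 2, 1, 0, 3, 2, 3, 3, 3, 0, 0, 1, 2, 1, 1, 1, 0, 1, 2, 3, 0, 3, 3, 1, 1, 2, 1, 0, 3, 2, 3, 3, 3, 0, 0, 1, 2, 1, 1, 1, 0, 1, 2, 3, 0, 3, 3, 1, 1, 2, 1, 0, 3, 2, 3, 3, 3, 0, 0, 1, 2, 1, 1, 1, 0, 1, 2, 3, 0, 3, 3, 0, 1], [1, 1, 2, 1, 0, 3, 2, 3, 3, 3, 0, 0, 1, 2, 1, 1, 1, 0, 1, 2, 3, 0, 3, 3, 1, 1, 2, 1, 0, 3, 2, 3, 3, 3, 0, 0, 1, 2, 1, 1, 1, 0, 1, 2, 3, 0, 3, 3, 0, 1, 0, 1, 0, 1, 0, 1], [1, 1, 2, 1, 0, 3, 2, 3, 3, 3, 0, 0, 1, 2, 1, 1, 1, 0, 1, 2, 3, 0, 3, 3, 1, 1, 2, 1, 0, 3, 2, 3, 3, 3, 0, 0, 1, 2, 1, 1, 1, 0, 1, 2, 3, 0, 3, 3, 1, 1, 2, 1, 0, 3, 2, 3, 3, 3,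 0, 0, 1, 2, 1, 1, 1, 0, 1, 2, 3, 0, 3, 3, 0, 1, 0, 1, 0, 1], [1, 1, 2, 1, 0, 3, 2, 3, 3, 3, 0, 0, 1, 2, 1, 1, 1, 0, 1, 2, 3, 0, 3, 3, 1, 1, 2, 1, 0, 3, 2, 3, 3, 3, 0, 0, 1, 2, 1, 1, 1, 0, 1, 2, 3, 0, 3, 3, 1, 1, 2, 1, 0, 3, 2, 3, 3, 3, 0, 0, 1, 2, 1, 1, 1, 0, 1, 2, 3, 0, 3, 3, 1, 1, 2, 1, 0, 3, 2, 3, 3, 3, 0, 0, 1, 2, 1, 1, 1, 0, 1, 2, 3, 0, 3, 3, 0, 1, 0, 1], [1, 1, 2, 1, 0, 3, 2, 3, 3, 3, 0, 0, 1, 2, 1, 1, 1, 0, 1, 2, 3, 0, 3, 3, 1, 1, 2, 1, 0, 3, 2, 3, 3, 3, 0, 0, 1, 2, 1, 1, 1, 0, 1, 2, 3, 0, 3, 3, 1, 1, 2, 1, 0, 3, 2, 3, 3, 3, 0, 0, 1, 2, 1, 1, 1, 0, 1, 2, 3, 0, 3, 3, 0, 1, 0, 1, 0, 1, 0, 1], [1, 1, 2, 1, 0, 3, 2, 3, 3, 3, 0, 0, 1, 2, 1, 1, 1, 0, 1, 2, 3, 0, 3, 3, 1, 1, 2, 1, 0,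 3, 2, 3, 3, 3, 0, 0, 1, 2, 1, 1, 1, 0, 1, 2, 3, 0, 3, 3, 1, 1, 2, 1, 0, 3, 2, 3, 3, 3, 0, 0, 1, 2, 1, 1, 1, 0, 1, 2, 3, 0, 3, 3, 1, 1, 2, 1, 0, 3, 2, 3, 3, 3, 0, 0, 1, 2, 1, 1, 1, 0, 1, 2, 3, 0, 3, 3, 0, 1, 0, 1, 0, 1], [1, 1, 2, 1, 0, 3, 2, 3, 3, 3, 0, 0, 1, 2, 1, 1, 1, 0, 1, 2, 3, 0, 3, 3, 1, 1, 2, 1, 0, 3, 2, 3, 3, 3, 0, 0, 1, 2, 1, 1, 1, 0, 1, 2, 3, 0, 3, 3, 1, 1, 2, 1, 0, 3, 2, 3, 3, 3, 0, 0, 1, 2, 1, 1, 1, 0, 1, 2, 3, 0, 3, 3, 1, 1, 2, 1, 0, 3, 2, 3, 3, 3, 0, 0, 1, 2, 1, 1, 1, 0, 1, 2, 3, 0, 3, 3, 0, 1, 0, 1, 0, 1, 0, 1]] : List (List ℕ)).getD i []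

/-- The multiplication by generators of the group E. -/
def tauE (a i : ℕ) : ℕ := (([[1, 3, 4, 6, 7, 8, 10, 11, 12, 13, 0, 15, 16, 17, 18, 2, 19, 20, 21, 5, 22, 23, 9, 24, 14], [2, 4, 5, 7, 8, 9, 11, 12, 13, 14, 15, 16, 17, 18, 0, 19, 20, 21, 1, 22, 23, 3, 24, 6, 10]] : List (List ℕ)).getD a []).getD i 0

/-- The tree of the group E. -/
def prE (i : ℕ) : ℕ := ([0, 0, 0, 1, 1, 2, 3, 3, 4, 5, 6, 6, 7, 8, 9, 10, 11, 12, 13, 15, 16, 17, 19, 20, 22] : List ℕ).getD i 0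

/-- The tree of the group E. -/
def gnE (i : ℕ) : ℕ := ([0, 0, 1, 0, 1, 1, 0, 1, 1, 1, 0, 1, 1, 1, 1, 1, 1, 1, 1, 1, 1, 1, 1, 1, 1] : List ℕ).getD i 0

/-- The conjugators of the group E. -/
def HcE (i : ℕ) : List ℕ := ([[], [], [1, 1, 2, 1, 0, 3, 2, 3, 3, 3, 0], [0, 3, 2, 1, 2, 3, 2, 1, 1, 1, 0, 3, 0, 3, 0], [1, 2, 1, 0, 3, 0, 1, 1, 2, 1, 1, 0, 1, 1, 0], [1, 2, 1, 1, 0, 1, 2, 3, 0, 1, 0, 1, 0, 3, 0], [2, 1, 2, 1, 2, 3, 3, 3, 0, 1, 0, 3, 0, 1, 1], [2, 1, 0, 1, 2, 3, 3, 3, 3, 3, 0, 3, 0], [2, 1, 0, 3, 3, 2, 1, 1, 2, 1, 0, 1, 0], [1, 1, 2, 1, 1, 2, 3, 3, 3, 2, 3, 0, 3, 0], [1, 1, 0, 1, 1, 2, 1, 1, 0, 3, 3], [2, 3, 3, 3, 3, 2, 3, 3, 2, 3, 2, 1, 0, 3], [1, 1, 1, 1, 1, 1, 1, 0, 1, 2, 3,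 3, 3], [2, 3, 3, 3, 2, 1, 2, 3, 3, 2, 3, 0, 3], [2, 1, 1, 2, 1, 0, 3, 3, 0, 1, 0, 3, 3, 0, 3, 0], [1, 0, 1, 2, 1, 1, 1, 2, 3, 2, 3, 0, 3, 3, 0], [2, 1, 1, 0, 1, 0, 1, 1, 0, 3, 2, 3, 3, 0, 3], [1, 2, 1, 1, 2, 3, 0, 3, 3, 2, 1, 0, 1, 1], [2, 1, 1, 1, 0, 1, 2, 3, 0, 3, 3], [2, 3, 2, 3, 0, 3, 3, 0, 1, 1, 2, 3, 0], [2, 1, 2, 3, 0, 1, 2, 3, 3, 3, 3, 3, 2, 3], [2, 1, 2, 1, 1, 1, 1, 1, 0, 3, 2, 3, 0], [1, 2, 1, 0, 1, 1, 0, 3, 0, 1, 1, 1, 0], [1, 1, 0, 1, 2, 3, 3, 0, 3, 0, 1, 2, 3], [1, 1, 0, 3, 2, 1, 1, 2, 3, 2, 3, 0, 1, 0]] : List (List ℕ)).getD i []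

/-- The representative. -/
def rhoE : List ℕ := [0, 1]

theorem c_l1E : ∀ a < 2, ∀ b ∈ WgE a, b < 4 := by decide +kernel

theorem c_l2E : ∀ i < 25, (∀ b ∈ WLE i, b < 4) ∧ (∀ b ∈ HcE i, b < 4) := by decide +kernel

theorem c_l3E : ∀ b ∈ rhoE, b < 4 := by decide +kernel

theorem c_mulE : allI (fun x => Nat.blt (tauE (x / 25) (x % 25)) 25 && chkEq (WgE (x / 25) ++ WLE (x % 25)) (WLE (tauE (x / 25) (x % 25)))) 0 50 = true := by decide +kernel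

theorem c_treeE : allI (fun i => Nat.blt (prE i) i && Nat.blt (gnE i) 2 && Nat.beq (tauE (gnE i) (prE i)) i) 1 24 = true := by decide +kernel

theorem c_conjE : allI (fun i => chkEq (HcE i ++ rhoE) (WLE i ++ HcE i)) 1 24 = true := by decide +kernel

theorem c_ndE : ((List.range 25).map fun i => walk V (WLE i) 0).Nodup := by decide +kernel

/-- The generators of the group R. -/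
def WgR (a : ℕ) : List ℕ := ([[1, 2, 3, 0, 1, 0, 3, 2, 1, 1, 1, 2, 1, 1], [1, 2, 3, 0, 1, 2, 3, 0, 1, 0, 3, 2, 1, 0, 3, 2, 1, 0, 3]] : List (List ℕ)).getD a []

/-- The elements of the group R. -/
def WLR (i : ℕ) : List ℕ := ([[], [1, 2, 3, 0, 1, 0, 3, 2, 1, 1, 1, 2, 1, 1], [1, 2, 3, 0, 1, 2, 3, 0, 1, 0, 3, 2, 1, 0, 3, 2, 1, 0, 3], [3, 3, 0, 3, 3, 3, 0, 1, 2, 3, 2, 1, 0, 3], [1, 2, 3, 0, 1, 2, 3, 0, 1, 0, 3, 2, 1, 0, 3, 2, 1, 0, 3, 1, 2, 3, 0, 1, 0, 3, 2, 1, 1, 1, 2, 1, 1], [1, 2, 3, 0, 1, 0, 3, 2, 1, 1, 1, 2, 1, 1, 1, 2, 3, 0, 1, 2, 3, 0, 1, 0, 3, 2, 1, 0, 3, 2, 1, 0, 3], [1, 2, 3, 0, 1, 2, 3, 0, 1, 0, 3, 2, 1, 0, 3, 2, 1, 0, 3, 1, 2, 3, 0, 1, 2, 3, 0, 1, 0, 3, 2, 1, 0, 3, 2, 1, 0,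 3], [1, 2, 3, 0, 1, 2, 3, 0, 1, 0, 3, 2, 1, 0, 3, 2, 1, 0, 3, 1, 2, 3, 0, 1, 0, 3, 2, 1, 1, 1, 2, 1, 1, 1, 2, 3, 0, 1, 0, 3, 2, 1, 1, 1, 2, 1, 1], [1, 2, 3, 0, 1, 0, 3, 2, 1, 1, 1, 2, 1, 1, 1, 2, 3, 0, 1, 2, 3, 0, 1, 0, 3, 2, 1, 0, 3, 2, 1, 0, 3, 1, 2, 3, 0, 1, 0, 3, 2, 1, 1, 1, 2, 1, 1], [1, 2, 3, 0, 1, 2, 3, 0, 1, 0, 3, 2, 1, 0, 3, 2, 1, 0, 3, 1, 2, 3, 0, 1, 2, 3, 0, 1, 0, 3, 2, 1, 0, 3, 2, 1, 0, 3, 1, 2, 3, 0, 1, 0, 3, 2, 1, 1, 1, 2, 1, 1], [1, 2, 3, 0, 1, 0, 3, 2, 1, 1, 1, 2, 1, 1, 1, 2, 3, 0, 1, 0, 3, 2, 1, 1, 1, 2, 1, 1, 1, 2, 3, 0, 1, 2, 3, 0, 1, 0, 3, 2, 1, 0, 3, 2, 1, 0, 3], [1, 2, 3, 0, 1, 2, 3, 0, 1, 0, 3, 2, 1, 0, 3, 2, 1, 0, 3, 1, 2, 3, 0, 1, 0, 3, 2, 1, 1, 1, 2, 1, 1,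 1, 2, 3, 0, 1, 2, 3, 0, 1, 0, 3, 2, 1, 0, 3, 2, 1, 0, 3], [1, 2, 3, 0, 1, 0, 3, 2, 1, 1, 1, 2, 1, 1, 1, 2, 3, 0, 1, 2, 3, 0, 1, 0, 3, 2, 1, 0, 3, 2, 1, 0, 3, 1, 2, 3, 0, 1, 2, 3, 0, 1, 0, 3, 2, 1, 0, 3, 2, 1, 0, 3], [1, 2, 3, 0, 1, 0, 3, 2, 1, 1, 1, 2, 1, 1, 1, 2, 3, 0, 1, 2, 3, 0, 1, 0, 3, 2, 1, 0, 3, 2, 1, 0, 3, 1, 2, 3, 0, 1, 0, 3, 2, 1, 1, 1, 2, 1, 1, 1, 2, 3, 0, 1, 0, 3, 2, 1, 1, 1, 2, 1, 1], [1, 2, 3, 0, 1, 2, 3, 0, 1, 0, 3, 2, 1, 0, 3, 2, 1, 0, 3, 1, 2, 3, 0, 1, 2, 3, 0, 1, 0, 3, 2, 1, 0, 3, 2, 1, 0, 3, 1, 2, 3, 0, 1, 0, 3, 2, 1, 1, 1, 2, 1, 1, 1, 2, 3, 0, 1, 0, 3, 2, 1, 1, 1, 2, 1, 1], [1, 2, 3, 0, 1, 0, 3, 2, 1, 1, 1, 2, 1, 1, 1, 2, 3, 0, 1, 0, 3, 2, 1, 1, 1, 2, 1, 1, 1, 2,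 3, 0, 1, 2, 3, 0, 1, 0, 3, 2, 1, 0, 3, 2, 1, 0, 3, 1, 2, 3, 0, 1, 0, 3, 2, 1, 1, 1, 2, 1, 1], [1, 2, 3, 0, 1, 2, 3, 0, 1, 0, 3, 2, 1, 0, 3, 2, 1, 0, 3, 1, 2, 3, 0, 1, 0, 3, 2, 1, 1, 1, 2, 1, 1, 1, 2, 3, 0, 1, 2, 3, 0, 1, 0, 3, 2, 1, 0, 3, 2, 1, 0, 3, 1, 2, 3, 0, 1, 0, 3, 2, 1, 1, 1, 2, 1, 1], [1, 2, 3, 0, 1, 0, 3, 2, 1, 1, 1, 2, 1, 1, 1, 2, 3, 0, 1, 2, 3, 0, 1, 0, 3, 2, 1, 0, 3, 2, 1, 0, 3, 1, 2, 3, 0, 1, 2, 3, 0, 1, 0, 3, 2, 1, 0, 3, 2, 1, 0, 3, 1, 2, 3, 0, 1, 0, 3, 2, 1, 1, 1, 2, 1, 1], [2, 1, 2, 3, 0, 1, 0, 3, 2, 1, 1, 1, 2, 1, 1], [1, 2, 3, 0, 1, 0, 3, 2, 1, 1, 1, 2, 1, 1, 0], [1, 2, 3, 0, 1, 0, 3, 2, 1, 1, 1, 2, 1, 1, 1, 2, 3, 0, 1, 0, 3, 2, 1, 1, 1, 2, 1, 1, 1, 2, 3, 0, 1, 2,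 3, 0, 1, 0, 3, 2, 1, 0, 3, 2, 1, 0, 3, 1, 2, 3, 0, 1, 0, 3, 2, 1, 1, 1, 2, 1, 1, 1, 2, 3, 0, 1, 0, 3, 2, 1, 1, 1, 2, 1, 1], [1, 2, 3, 0, 1, 2, 3, 0, 1, 0, 3, 2, 1, 0, 3, 2, 1, 0, 3, 1, 2, 3, 0, 1, 0, 3, 2, 1, 1, 1, 2, 1, 1, 1, 2, 3, 0, 1, 2, 3, 0, 1, 0, 3, 2, 1, 0, 3, 2, 1, 0, 3, 1, 2, 3, 0, 1, 0, 3, 2, 1, 1, 1, 2, 1, 1, 1, 2, 3, 0, 1, 0, 3, 2, 1, 1, 1, 2, 1, 1], [1, 2, 3, 0, 1, 0, 3, 2, 1, 1, 1, 2, 1, 1, 1, 2, 3, 0, 1, 2, 3, 0, 1, 0, 3, 2, 1, 0, 3, 2, 1, 0, 3, 1, 2, 3, 0, 1, 2, 3, 0, 1, 0, 3, 2, 1, 0, 3, 2, 1, 0, 3, 1, 2, 3, 0, 1, 0, 3, 2, 1, 1, 1, 2, 1, 1, 1, 2, 3, 0, 1, 0, 3, 2, 1, 1, 1, 2, 1, 1], [3, 3, 0, 3, 3, 3, 0, 1, 2, 3, 2, 1, 0, 3, 2], [3, 3, 0, 3, 3, 3, 0, 1, 2, 3, 2, 1,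 0, 3, 0], [2], [0]] : List (List ℕ)).getD i []

/-- The multiplication by generators of the group R. -/
def tauR (a i : ℕ) : ℕ := (([[1, 3, 5, 0, 8, 10, 12, 13, 15, 17, 2, 14, 16, 20, 22, 4, 6, 21, 23, 24, 7, 9, 11, 25, 26, 18, 19], [2, 4, 6, 7, 9, 11, 0, 14, 16, 1, 17, 18, 19, 21, 3, 22, 23, 24, 5, 20, 12, 25, 26, 8, 10, 13, 15]] : List (List ℕ)).getD a []).getD i 0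

/-- The tree of the group R. -/
def prR (i : ℕ) : ℕ := ([0, 0, 0, 1, 1, 2, 2, 3, 4, 4, 5, 5, 6, 7, 7, 8, 8, 9, 11, 12, 13, 13, 14, 16, 17, 21, 22] : List ℕ).getD i 0

/-- The tree of the group R. -/
def gnR (i : ℕ) : ℕ := ([0, 0, 1, 0, 1, 0, 1, 1, 0, 1, 0, 1, 0, 0, 1, 0, 1, 0, 1, 1, 0, 1, 0, 1, 1, 1, 1] : List ℕ).getD i 0

/-- The conjugators of the group R. -/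
def HcR (i : ℕ) : List ℕ := ([[], [3, 2, 3, 2, 1, 1, 1, 0, 1, 2, 3, 3, 3, 3], [1, 2, 3, 0, 1, 2, 3, 0, 1], [1, 1, 1, 1, 0, 3, 2, 3, 3, 3, 0, 1, 0, 1], [1, 0, 3, 2, 3, 2, 1, 1, 1, 1, 2, 3], [1, 1, 0, 1, 0, 3, 0, 3, 3, 2, 3, 0, 1, 1], [1, 0, 1, 1, 2, 1, 2, 3, 0, 3, 3], [1, 2, 1, 0, 3, 3, 2, 1, 1, 2, 3, 3], [1, 0, 3, 3, 3, 0, 3, 0, 3, 2, 1], [1, 0, 1, 1, 0, 1, 1, 0, 3, 2, 1, 0, 1], [1, 1, 0, 3, 3, 0, 1, 1, 2, 3, 0, 3], [3, 0, 1, 2, 1, 2, 1, 1, 1, 2, 3], [1, 1, 1, 0, 1, 2, 1, 0, 3, 3, 3, 0, 3], [3, 2, 3, 0, 3, 3, 2, 1, 1, 2, 1], [3, 3, 3, 3, 2, 1, 2, 3, 3, 3, 2, 1, 2, 1], [3, 0, 3, 3, 0, 1, 1, 2, 1, 0, 1], [3, 3, 3, 2, 1, 2, 1, 1, 0, 1, 2, 3, 3, 3], [3, 2, 1, 0, 1, 1, 0, 3, 3, 0, 3, 0,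 1, 0, 1], [1, 2, 1, 2, 1, 2, 3, 3, 2, 1, 1, 1, 0, 3], [1, 2, 1, 1, 1, 2, 3, 0, 3, 2, 3, 3, 3], [1, 1, 1, 0, 3, 2, 1, 2, 3, 0, 1, 2, 1, 1, 1], [1, 0, 3, 0, 3, 0, 3, 3, 3, 2, 1], [3, 2, 1, 0, 3, 2, 1, 0, 3], [1, 2, 3, 3, 3, 0, 1, 1, 0, 3, 0, 3, 0, 3], [1, 0, 3, 3, 3, 3, 2, 1, 0, 1, 2, 3, 2, 1], [1, 2, 3, 0, 3, 0, 3, 3, 3, 0, 1], []] : List (List ℕ)).getD i []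

/-- The representative. -/
def rhoR : List ℕ := [0]

theorem c_l1R : ∀ a < 2, ∀ b ∈ WgR a, b < 4 := by decide +kernel

theorem c_l2R : ∀ i < 27, (∀ b ∈ WLR i, b < 4) ∧ (∀ b ∈ HcR i, b < 4) := by decide +kernel

theorem c_l3R : ∀ b ∈ rhoR, b < 4 := by decide +kernel

theorem c_mulR : allI (fun x => Nat.blt (tauR (x / 27) (x % 27)) 27 && chkEq (WgR (x / 27) ++ WLR (x % 27)) (WLR (tauR (x / 27) (x % 27)))) 0 54 = true := by decide +kernel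

theorem c_treeR : allI (fun i => Nat.blt (prR i) i && Nat.blt (gnR i) 2 && Nat.beq (tauR (gnR i) (prR i)) i) 1 26 = true := by decide +kernel

theorem c_conjR : allI (fun i => chkEq (HcR i ++ rhoR) (WLR i ++ HcR i)) 1 26 = true := by decide +kernel

theorem c_ndR : ((List.range 27).map fun i => walk V (WLR i) 0).Nodup := by decide +kernel

/-- The element of order thirteen. -/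
def xw : List ℕ := [0, 1, 1, 1, 1]

/-- The element of order three normalising it. -/
def yw : List ℕ := [3, 2, 1, 1, 0, 1, 0, 3, 3, 3, 2, 3]

theorem c_xy : chkEq (powW xw 13) [] = true ∧ chkEq (powW yw 3) [] = true ∧ chkEq (yw ++ xw) (powW xw 3 ++ yw) = true ∧
    walk V xw 0 ≠ 0 ∧ walk V yw 0 ≠ 0 ∧ walk V rhoR 0 ≠ 0 := by decide +kernel

theorem c_xyl : (∀ b ∈ xw, b < 4) ∧ (∀ b ∈ yw, b < 4) := by decide +kernel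


end Cfsg.Agent.Lib.KnownSimple.TitsLab
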